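import Cfsg.Agent.Lib.HeckeCenter.Model

/-!
The dimension of the centre of the Hecke algebra does not depend on the positive parameter.
-/

set_option autoImplicit false

namespace CfsgLib.HeckeCenter

open Matrix Module

variable {W : Type*} [Group W] {I : Type*} (S : Setup W I) [Fintype W] [DecidableEq W]

namespace Setup

theorem Lg_adjoint {R : Type*} [CommRing R] (a : R) (i : I) :
    (S.Lg a i)ᵀ * diagonal (fun v => a ^ S.len v) = diagonal (fun v => a ^ S.len v) * S.Lg a i := by
  ext u v
  rw [mul_diagonal, diagonal_mul, transpose_apply]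
  simp only [Lg, of_apply]
  by_cases h1 : v = S.s i * u
  · subst h1
    rw [S.s_mul_s, if_pos rfl, if_pos rfl]
    rcases S.len_mul i u with h | h
    · rw [if_pos h, if_neg (by omega), h, pow_succ]; ring
    · rw [if_pos h.symm, if_neg (by omega), ← h, pow_succ]; ring
  · have h2 : ¬ u = S.s i * v := fun e => h1 (by rw [e, S.s_mul_s])
    rw [if_neg h1, if_neg h2]
    by_cases h3 : u = v
    · subst h3; ring
    · rw [if_neg (fun h => h3 h.1), if_neg (fun h => h3 h.1.symm)]; ring

theorem list_adjoint {R : Type*} [CommRing R] (a : R) (l : List I) :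
    (l.map (S.Lg a)).prodᵀ * diagonal (fun v => a ^ S.len v) =
      diagonal (fun v => a ^ S.len v) * ((l.reverse).map (S.Lg a)).prod := by
  induction l with
  | nil => simp
  | cons i l ih =>
    rw [List.map_cons, List.prod_cons, transpose_mul, mul_assoc, S.Lg_adjoint, ← mul_assoc, ih, List.reverse_cons,
      List.map_append, List.prod_append, mul_assoc]
    simp

theorem LW_adjoint {R : Type*} [CommRing R] (a : R) (w : W) :
    (S.LW a w)ᵀ * diagonal (fun v => a ^ S.len v) = diagonal (fun v => a ^ S.len v) * S.LW a w⁻¹ := by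
  rw [LW, S.list_adjoint]
  congr 1
  have hp : ((S.red w).reverse.map S.s).prod = w⁻¹ := by
    conv_rhs => rw [← S.red_prod w, List.prod_inv_reverse, List.map_map, ← List.map_reverse]
    exact congrArg List.prod (List.map_congr_left fun i _ => (S.s_inv i).symm)
  have h := S.list_eq_LW a (S.red w).reverse (by rw [hp, S.len_inv, List.length_reverse, S.red_length])
  rwa [hp] at h

theorem LW_one {R : Type*} [CommRing R] (a : R) : S.LW a 1 = 1 := by
  have h : S.red (1 : W) = [] := List.eq_nil_of_length_eq_zero (by rw [S.red_length, S.len_one])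
  rw [LW, h, List.map_nil, List.prod_nil]

theorem LW_RW_one {R : Type*} [CommRing R] (a : R) (w : W) :
    S.LW a w *ᵥ (S.RW a w *ᵥ Pi.single 1 1) = (S.LW a w * S.LW a w⁻¹) *ᵥ Pi.single 1 1 := by
  rw [S.RW_mulVec_one, ← Matrix.mulVec_mulVec, S.LW_mulVec_one]

/-- Over the reals the identity is a value of the Casimir operator. -/
theorem exists_casimir_one {a : ℝ} (ha : 0 < a) : ∃ g, S.casimir a *ᵥ g = Pi.single 1 1 := by
  set N := Finset.univ.sup S.len
  set M : Matrix W W ℝ := ∑ w, a ^ (N - S.len w) • (S.LW a w * S.LW a w⁻¹) with hM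
  set H : Matrix W W ℝ := diagonal (fun v => a ^ S.len v) with hH
  set z := S.casimir a *ᵥ Pi.single 1 1
  have hMz : M *ᵥ Pi.single 1 1 = z := by
    show M *ᵥ _ = S.casimir a *ᵥ _
    rw [hM, casimir, Matrix.sum_mulVec, Matrix.sum_mulVec]
    refine Finset.sum_congr rfl fun w _ => ?_
    rw [Matrix.smul_mulVec, Matrix.smul_mulVec, ← S.LW_RW_one, Matrix.mulVec_mulVec]
  have hMX : M = S.elX a z := by
    refine InComm.ext S (fun j => Commute.sum_left _ _ _ fun w _ => ?_) (S.inComm_elX a z)
      (hMz.trans (S.elX_mulVec_one a z).symm)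
    exact (InComm.mul S (S.inComm_LW a w) (S.inComm_LW a w⁻¹) j).smul_left _
  have hcomm : Commute M (S.casimir a) := hMX ▸ S.commute_elX_casimir a fun i => S.casimir_central a _ i
  have hinj : Function.Injective M.mulVec := by
    have h0 : ∀ y, M *ᵥ y = 0 → y = 0 := by
      intro y hy
      have hform : y ⬝ᵥ (H *ᵥ (M *ᵥ y)) = ∑ w, a ^ (N - S.len w) *
          ∑ v, a ^ S.len v * ((S.LW a w⁻¹ *ᵥ y) v) ^ 2 := by
        rw [hM, Matrix.sum_mulVec, Matrix.mulVec_sum, dotProduct_sum]
        refine Finset.sum_congr rfl fun w _ => ?_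
        rw [Matrix.smul_mulVec, Matrix.mulVec_smul, dotProduct_smul, smul_eq_mul]
        congr 1
        have h1 := S.LW_adjoint a w⁻¹
        rw [inv_inv, ← hH] at h1
        rw [Matrix.mulVec_mulVec, ← mul_assoc, ← h1, ← Matrix.mulVec_mulVec, ← Matrix.mulVec_mulVec,
          dotProduct_mulVec, vecMul_transpose]
        rw [dotProduct]
        refine Finset.sum_congr rfl fun v _ => ?_
        rw [hH, mulVec_diagonal]
        ring
      rw [hy, Matrix.mulVec_zero, dotProduct_zero] at hform
      have h1 := (Finset.sum_eq_zero_iff_of_nonneg fun w _ => by positivity).1 hform.symm 1 (Finset.mem_univ _)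
      rw [inv_one, S.LW_one, Matrix.one_mulVec, mul_eq_zero] at h1
      have h2 := h1.resolve_left (pow_ne_zero _ ha.ne')
      funext v
      have h3 := (Finset.sum_eq_zero_iff_of_nonneg fun v _ => by positivity).1 h2 v (Finset.mem_univ _)
      simpa [ha.ne'] using h3
    intro x y h
    exact sub_eq_zero.1 (h0 _ (by rw [Matrix.mulVec_sub]; exact sub_eq_zero.2 h))
  obtain ⟨g, hg⟩ := (Matrix.mulVec_surjective_iff_isUnit.2 (Matrix.mulVec_injective_iff_isUnit.1 hinj))
    (Pi.single 1 1)
  refine ⟨g, hinj ?_⟩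
  show M *ᵥ (S.casimir a *ᵥ g) = M *ᵥ Pi.single 1 1
  rw [hMz, Matrix.mulVec_mulVec, hcomm.eq, ← Matrix.mulVec_mulVec]
  exact congrArg _ hg

/-- The central equations. -/
def Lam {R : Type*} [CommRing R] (a : R) : Matrix (I × W) W R :=
  Matrix.of fun x u => (S.Lg a x.1 - S.Rg a x.1) x.2 u

theorem mem_ker_Lam {R : Type*} [CommRing R] (a : R) (f : W → R) :
    f ∈ LinearMap.ker (S.Lam a).mulVecLin ↔ ∀ i, S.Lg a i *ᵥ f = S.Rg a i *ᵥ f := by
  rw [LinearMap.mem_ker, Matrix.mulVecLin_apply]
  simp only [funext_iff, Prod.forall, Pi.zero_apply, Lam, Matrix.mulVec, dotProduct, Matrix.of_apply,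
    Matrix.sub_apply, sub_mul, Finset.sum_sub_distrib, sub_eq_zero]

theorem range_eq_ker {r : ℝ} (hr : 0 < r) :
    LinearMap.range (S.casimir (r : ℂ)).mulVecLin = LinearMap.ker (S.Lam (r : ℂ)).mulVecLin := by
  refine le_antisymm ?_ fun f hf => ?_
  · rintro _ ⟨g, rfl⟩
    exact (S.mem_ker_Lam _ _).2 fun i => S.casimir_central _ g i
  · obtain ⟨g, hg⟩ := S.exists_casimir_one hr
    refine S.exists_casimir_eq _ ⟨fun v => (g v : ℂ), ?_⟩ ((S.mem_ker_Lam _ _).1 hf)
    funext v
    have h := RingHom.map_mulVec Complex.ofRealHom (S.casimir r) g v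
    rw [S.map_casimir, hg] at h
    rw [show ((r : ℂ)) = Complex.ofRealHom r from rfl]
    exact h.symm.trans (by simp [Pi.single_apply, apply_ite])

end Setup

/-- The rank of a specialisation is at most the generic rank. -/
theorem rank_eval_le {m n : Type*} [Fintype m] [Fintype n] [DecidableEq n] [DecidableEq m]
    (M : Matrix m n (Polynomial ℂ)) (z : ℂ) :
    (M.map (Polynomial.evalRingHom z)).rank ≤
      (M.map (algebraMap (Polynomial ℂ) (FractionRing (Polynomial ℂ)))).rank := by
  set A := M.map (Polynomial.evalRingHom z) with hA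
  obtain ⟨r, hr⟩ : ∃ r, A.rank = r := ⟨_, rfl⟩
  rw [hr]
  obtain ⟨b⟩ : Nonempty (Basis (Fin r) ℂ (LinearMap.range A.mulVecLin)) :=
    ⟨Module.finBasisOfFinrankEq ℂ _ hr⟩
  choose x hx using fun j => (b j).2
  let Q : Matrix n (Fin r) ℂ := Matrix.of fun v j => x j v
  have hinj : Function.Injective (A * Q).mulVec := by
    refine Matrix.mulVec_injective_iff.2 ?_
    have : (A * Q).col = fun j => ((b j : LinearMap.range A.mulVecLin) : m → ℂ) := by
      funext j v
      rw [← hx j, Matrix.mulVecLin_apply, Matrix.mulVec, dotProduct, Matrix.col_apply, Matrix.mul_apply]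
      rfl
    rw [this]
    exact b.linearIndependent.map' (LinearMap.range A.mulVecLin).subtype (Submodule.ker_subtype _)
  obtain ⟨P, hP⟩ := LinearMap.exists_leftInverse_of_injective (A * Q).mulVecLin (LinearMap.ker_eq_bot.2 hinj)
  have h1 : LinearMap.toMatrix' P * (A * Q) = 1 := by
    refine Matrix.ext_of_mulVec_single fun j => ?_
    rw [← Matrix.mulVec_mulVec, LinearMap.toMatrix'_mulVec, Matrix.one_mulVec]
    exact LinearMap.congr_fun hP _
  let C := (algebraMap (Polynomial ℂ) (FractionRing (Polynomial ℂ)))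
  let P' : Matrix (Fin r) m (Polynomial ℂ) := (LinearMap.toMatrix' P).map Polynomial.C
  let Q' : Matrix n (Fin r) (Polynomial ℂ) := Q.map Polynomial.C
  have hdet : (P' * (M * Q')).det ≠ 0 := by
    intro h
    have h2 := congrArg (Polynomial.evalRingHom z) h
    rw [RingHom.map_det, RingHom.mapMatrix_apply, Matrix.map_mul, Matrix.map_mul, map_zero] at h2
    have e1 : P'.map (Polynomial.evalRingHom z) = LinearMap.toMatrix' P := by ext i j; simp [P']
    have e2 : Q'.map (Polynomial.evalRingHom z) = Q := by ext i j; simp [Q']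
    rw [e1, e2, ← hA, h1, Matrix.det_one] at h2
    exact one_ne_zero h2
  have hu : IsUnit ((P' * (M * Q')).map C) := by
    rw [Matrix.isUnit_iff_isUnit_det, isUnit_iff_ne_zero, ← RingHom.mapMatrix_apply, ← RingHom.map_det]
    exact (map_ne_zero_iff _ (IsFractionRing.injective _ _)).2 hdet
  have h3 := Matrix.rank_of_isUnit _ hu
  rw [Matrix.map_mul, Matrix.map_mul, Fintype.card_fin] at h3
  rw [← h3]
  exact (Matrix.rank_mul_le_right _ _).trans (Matrix.rank_mul_le_left _ _)

variable [Fintype I] [DecidableEq I]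

/-- The dimension of the centre is the number of conjugacy classes. -/
theorem Setup.finrank_center {r : ℝ} (hr : 0 < r) :
    finrank ℂ (LinearMap.ker (S.Lam (r : ℂ)).mulVecLin) = Nat.card (ConjClasses W) := by
  set K := FractionRing (Polynomial ℂ)
  set C := algebraMap (Polynomial ℂ) K
  set Γg := (S.casimir (Polynomial.X : Polynomial ℂ))
  set Λg := (S.Lam (Polynomial.X : Polynomial ℂ))
  have hmapL : ∀ z : ℂ, Λg.map (Polynomial.evalRingHom z) = S.Lam z := fun z => by
    refine Matrix.ext fun x u => ?_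
    have h1 := congrFun (congrFun (S.map_Lg (Polynomial.evalRingHom z) Polynomial.X x.1) x.2) u
    have h2 := congrFun (congrFun (S.map_Rg (Polynomial.evalRingHom z) Polynomial.X x.1) x.2) u
    simp only [Matrix.map_apply, Polynomial.coe_evalRingHom, Polynomial.eval_X] at h1 h2
    simp [Λg, Setup.Lam, h1, h2]
  have hmapG : ∀ z : ℂ, Γg.map (Polynomial.evalRingHom z) = S.casimir z := fun z => by
    simpa using S.map_casimir (Polynomial.evalRingHom z) (Polynomial.X : Polynomial ℂ)
  have hprod : Λg * Γg = 0 := by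
    refine Matrix.ext fun x u => ?_
    have h := congrFun (congrFun (S.Lg_casimir (Polynomial.X : Polynomial ℂ) x.1) x.2) u
    simp only [Matrix.mul_apply] at h
    simp [Matrix.mul_apply, Λg, Γg, Setup.Lam, sub_mul, Finset.sum_sub_distrib, h]
  have hgen : (Λg.map C).rank + (Γg.map C).rank ≤ Fintype.card W := by
    have h0 : Λg.map C * Γg.map C = 0 := by
      rw [← Matrix.map_mul, hprod]; exact Matrix.map_zero _ (map_zero C)
    have h1 : LinearMap.range (Γg.map C).mulVecLin ≤ LinearMap.ker (Λg.map C).mulVecLin := by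
      rintro _ ⟨g, rfl⟩
      rw [LinearMap.mem_ker, Matrix.mulVecLin_apply, Matrix.mulVecLin_apply, Matrix.mulVec_mulVec, h0,
        Matrix.zero_mulVec]
    have h2 := Submodule.finrank_mono h1
    have h3 := (Λg.map C).mulVecLin.finrank_range_add_finrank_ker
    rw [Module.finrank_pi] at h3
    have e1 : (Γg.map C).rank = finrank K (LinearMap.range (Γg.map C).mulVecLin) := rfl
    have e2 : (Λg.map C).rank = finrank K (LinearMap.range (Λg.map C).mulVecLin) := rfl
    omega
  have key : ∀ t : ℝ, 0 < t → finrank ℂ (LinearMap.ker (S.Lam (t : ℂ)).mulVecLin) = (Γg.map C).rank := by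
    intro t ht
    have hΓ : (S.casimir (t : ℂ)).rank ≤ (Γg.map C).rank := hmapG (t : ℂ) ▸ rank_eval_le Γg _
    have hΛ : (S.Lam (t : ℂ)).rank ≤ (Λg.map C).rank := hmapL (t : ℂ) ▸ rank_eval_le Λg _
    have h3 := (S.Lam (t : ℂ)).mulVecLin.finrank_range_add_finrank_ker
    rw [Module.finrank_pi] at h3
    rw [← S.range_eq_ker ht] at h3 ⊢
    have e1 : (S.casimir (t : ℂ)).rank = finrank ℂ (LinearMap.range (S.casimir (t : ℂ)).mulVecLin) := rfl
    have e2 : (S.Lam (t : ℂ)).rank = finrank ℂ (LinearMap.range (S.Lam (t : ℂ)).mulVecLin) := rfl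
    omega
  rw [key r hr, ← key 1 one_pos]
  have hiff : ∀ f : W → ℂ, f ∈ LinearMap.ker (S.Lam ((1 : ℝ) : ℂ)).mulVecLin ↔ ∀ x y, IsConj x y → f x = f y := by
    intro f
    rw [S.mem_ker_Lam]
    have e : ∀ i, (S.Lg ((1 : ℝ) : ℂ) i *ᵥ f = S.Rg ((1 : ℝ) : ℂ) i *ᵥ f) ↔ ∀ v, f (S.s i * v) = f (v * S.s i) := fun i => by
      rw [funext_iff]
      refine forall_congr' fun v => ?_
      rw [S.Lg_mulVec, S.Rg_mulVec]
      simp
    simp only [e]
    constructor
    · intro h
      have hall : ∀ w, ∀ v, f (w * v) = f (v * w) := by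
        refine S.ind _ (fun v => by rw [one_mul, mul_one]) fun w i _ hw v => ?_
        rw [mul_assoc, hw, mul_assoc, h i, mul_assoc]
      intro x y hxy
      obtain ⟨c, rfl⟩ := isConj_iff.1 hxy
      rw [hall (c * x) c⁻¹, inv_mul_cancel_left]
    · intro h i v
      exact h _ _ (isConj_iff.2 ⟨S.s i, by rw [← mul_assoc, S.s_sq, one_mul, S.s_inv]⟩)
  let E : (ConjClasses W → ℂ) ≃ₗ[ℂ] LinearMap.ker (S.Lam ((1 : ℝ) : ℂ)).mulVecLin :=
    { toFun := fun g => ⟨fun v => g (ConjClasses.mk v),
        (hiff _).2 fun x y h => congrArg g (ConjClasses.mk_eq_mk_iff_isConj.2 h)⟩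
      invFun := fun f => fun c => Quotient.liftOn c f.1 ((hiff _).1 f.2)
      map_add' := fun _ _ => rfl
      map_smul' := fun _ _ => rfl
      left_inv := fun g => funext fun c => Quotient.inductionOn c fun v => rfl
      right_inv := fun f => rfl }
  have := Fintype.ofFinite (ConjClasses W)
  rw [← E.finrank_eq, Module.finrank_pi, Nat.card_eq_fintype_card]

end CfsgLib.HeckeCenter
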