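import Cfsg.Agent.Lib.HeckeCenter.Constituents
import Cfsg.Agent.Lib.HeckeCenter.Rank
import Cfsg.Agent.Lib.SteinbergChar.Cells

/-!
The constituents of the permutation character on the cosets of a Borel subgroup of a Chevalley group.
-/

set_option autoImplicit false

namespace CfsgLib.HeckeCenter

open Cfsg.Lie CfsgLib.ChevStr CfsgLib.ChevStr.ChevCore CfsgLib.SteinbergChar
open scoped Classical MatrixGroups Matrix

variable {D : ChevalleyDatum} {F : Type*} [Field F] (C : ChevCore D F)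

/-- The length function on the Weyl group. -/
noncomputable def weylSetup : Setup C.hR.weyl (Fin D.rank) :=
  have hpos : ∀ (i : Fin D.rank) (v : C.hR.weyl),
      (C.hR.invSet (C.hR.sPerm i * v : Equiv.Perm (Fin D.nroots))).card = (C.hR.invSet (v : Equiv.Perm (Fin D.nroots))).card + 1 ↔
        D.IsPosRoot ((v : Equiv.Perm (Fin D.nroots))⁻¹ (sroot C.R i)) := fun i v => by
    have hv := inv_mem v.2
    rw [← C.hR.card_invSet_inv v.2, ← C.hR.card_invSet_inv (mul_mem (C.hR.sPerm_mem i) v.2), mul_inv_rev,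
      inv_eq_of_mul_eq_one_right (C.hR.sPerm_mul_self i)]
    constructor
    · intro h
      refine (C.R.pos_or_neg ((v : Equiv.Perm (Fin D.nroots))⁻¹ (sroot C.R i)).isLt).resolve_right fun hn => ?_
      have := C.hR.invSet_mul_sPerm_of_neg hv i hn
      omega
    · exact fun h => C.hR.invSet_mul_sPerm hv i h
  { s := fun i => ⟨C.hR.sPerm i, C.hR.sPerm_mem i⟩
    s_sq := fun i => Subtype.ext (C.hR.sPerm_mul_self i)
    len := fun v => (C.hR.invSet (v : Equiv.Perm (Fin D.nroots))).card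
    len_one := by
      show (C.hR.invSet 1).card = 0
      rw [invSet_one C.hR, Finset.card_empty]
    len_inv := fun v => C.hR.card_invSet_inv v.2
    len_mul := fun i v => by
      have hv := inv_mem v.2
      show (C.hR.invSet (C.hR.sPerm i * v.1)).card = _ ∨ (C.hR.invSet (C.hR.sPerm i * v.1)).card + 1 = _
      rcases C.R.pos_or_neg ((v : Equiv.Perm (Fin D.nroots))⁻¹ (sroot C.R i)).isLt with h | h
      · exact Or.inl ((hpos i v).2 h)
      · refine Or.inr ?_
        rw [← C.hR.card_invSet_inv v.2, ← C.hR.card_invSet_inv (mul_mem (C.hR.sPerm_mem i) v.2), mul_inv_rev,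
          inv_eq_of_mul_eq_one_right (C.hR.sPerm_mul_self i)]
        exact C.hR.invSet_mul_sPerm_of_neg hv i h
    ind := fun P h1 hstep w => by
      obtain ⟨w, hw⟩ := w
      refine C.hR.weyl_inv_induction (P := fun w => ∀ h : w ∈ C.hR.weyl, P ⟨w, h⟩) (fun _ => h1) ?_ w hw hw
      intro w hw i hi ih hws
      exact hstep ⟨w, hw⟩ i (C.hR.invSet_mul_sPerm hw i hi) (ih hw)
    key := fun i j v hne => by
      show (C.hR.invSet (C.hR.sPerm i * (v.1 * C.hR.sPerm j))).card = _ ↔
        (C.hR.invSet (C.hR.sPerm i * v.1)).card = _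
      have h1 := hpos i (v * ⟨C.hR.sPerm j, C.hR.sPerm_mem j⟩)
      have h2 := hpos i v
      rw [Subgroup.coe_mul] at h1
      refine (h1.trans ?_).trans h2.symm
      rw [mul_inv_rev, inv_eq_of_mul_eq_one_right (C.hR.sPerm_mul_self j), Equiv.Perm.mul_apply]
      set r := (v : Equiv.Perm (Fin D.nroots))⁻¹ (sroot C.R i) with hr
      have hvr : (v : Equiv.Perm (Fin D.nroots)) r = sroot C.R i := by
        rw [hr, Equiv.Perm.inv_def, Equiv.apply_symm_apply]
      have hj1 : r ≠ sroot C.R j := fun e => hne (Subtype.ext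
        (C.hR.mul_sPerm_eq v.2 (i := j) (k := i) (congrArg Fin.val ((congrArg _ e.symm).trans hvr))).symm)
      have hj2 : C.hR.sPerm j r ≠ sroot C.R j := fun e => hne (Subtype.ext (by
        have h := C.hR.mul_sPerm_eq (mul_mem v.2 (C.hR.sPerm_mem j)) (i := j) (k := i)
          (congrArg Fin.val (show ((v : Equiv.Perm (Fin D.nroots)) * C.hR.sPerm j) (sroot C.R j) = sroot C.R i by
            rw [Equiv.Perm.mul_apply, ← e, C.hR.sPerm_sPerm, hvr]))
        rw [mul_assoc, C.hR.sPerm_mul_self, mul_one, ← mul_assoc] at h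
        show C.hR.sPerm i * v.1 = v.1 * C.hR.sPerm j
        conv_rhs => rw [h]
        rw [mul_assoc (C.hR.sPerm i * v.1), C.hR.sPerm_mul_self, mul_one]))
      constructor
      · intro h
        have := C.hR.refl_pos j h fun e => hj2 (Fin.ext e)
        rwa [← C.hR.sPerm_val, C.hR.sPerm_sPerm] at this
      · intro h
        have := C.hR.refl_pos j h fun e => hj1 (Fin.ext e)
        rwa [← C.hR.sPerm_val] at this }

theorem pos_iff (i : Fin D.rank) (v : C.hR.weyl) :
    (weylSetup C).pos i v ↔ D.IsPosRoot ((v : Equiv.Perm (Fin D.nroots))⁻¹ (sroot C.R i)) := by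
  have hv := inv_mem v.2
  show (C.hR.invSet (C.hR.sPerm i * v.1)).card = (C.hR.invSet v.1).card + 1 ↔ _
  rw [← C.hR.card_invSet_inv v.2, ← C.hR.card_invSet_inv (mul_mem (C.hR.sPerm_mem i) v.2), mul_inv_rev,
    inv_eq_of_mul_eq_one_right (C.hR.sPerm_mul_self i)]
  constructor
  · intro h
    refine (C.R.pos_or_neg ((v : Equiv.Perm (Fin D.nroots))⁻¹ (sroot C.R i)).isLt).resolve_right fun hn => ?_
    have := C.hR.invSet_mul_sPerm_of_neg hv i hn
    omega
  · exact fun h => C.hR.invSet_mul_sPerm hv i h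

/-- The representative of a Weyl element inside the group. -/
noncomputable def nWG (w : C.hR.weyl) : ↥(D.group F) :=
  ⟨nw C w.1, C.monomial_le_group (nw_mem C w.2)⟩

theorem exists_cell (g : ↥(D.group F)) : ∃ w : C.hR.weyl, (g : GL D.Idx F) ∈ C.bigCell (nw C w.1) := by
  obtain ⟨w, hw, b, hb, n, hn, hnw, u, hu, hg⟩ := C.normalForm_exists g.2
  refine ⟨⟨w, hw⟩, ?_⟩
  have hd : (nw C w)⁻¹ * n ∈ D.diagonalSubgroup F := C.mem_diagonal_of_moves_one
    (mul_mem (inv_mem (nw_mem C hw)) hn) (by simpa using Moves.mul C (Moves.inv C (nw_mem C hw) (nw_moves C hw)) hnw)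
  exact C.mem_bigCell.2 ⟨b, hb, _, mul_mem (diagonal_le_borel hd) (C.Ucl_invRoots_le _ hu), by rw [hg]; group⟩

/-- The Bruhat cell of an element. -/
noncomputable def cellOf (g : ↥(D.group F)) : C.hR.weyl := (exists_cell C g).choose

theorem cellOf_eq {g : ↥(D.group F)} {n : GL D.Idx F} (w : C.hR.weyl) (hn : n ∈ D.monomialSubgroup F)
    (hnw : C.Moves n w.1) (h : (g : GL D.Idx F) ∈ C.bigCell n) : cellOf C g = w := by
  refine Subtype.ext (C.moves_eq_of_mem (nw_mem C (cellOf C g).2) hn (nw_moves C (cellOf C g).2) hnw ?_)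
  exact C.bigCell_trans (C.bigCell_symm (exists_cell C g).choose_spec) h

theorem cellOf_nWG (w : C.hR.weyl) : cellOf C (nWG C w) = w :=
  cellOf_eq C w (nw_mem C w.2) (nw_moves C w.2) (C.self_mem_bigCell _)

/-- The Borel subgroup inside the group. -/
abbrev BG (D : ChevalleyDatum) (F : Type*) [Field F] : Subgroup ↥(D.group F) :=
  (D.borelSubgroup F).subgroupOf (D.group F)

theorem cellOf_mul {a b : ↥(D.group F)} (g : ↥(D.group F)) (ha : a ∈ BG D F) (hb : b ∈ BG D F) :
    cellOf C (a * g * b) = cellOf C g :=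
  cellOf_eq C _ (nw_mem C (cellOf C g).2) (nw_moves C (cellOf C g).2)
    (C.bigCell_mul (exists_cell C g).choose_spec ha hb)

theorem cellOf_mul_left {a : ↥(D.group F)} (g : ↥(D.group F)) (ha : a ∈ BG D F) :
    cellOf C (a * g) = cellOf C g := by simpa using cellOf_mul C g ha (one_mem _)

theorem cellOf_mul_right {b : ↥(D.group F)} (g : ↥(D.group F)) (hb : b ∈ BG D F) :
    cellOf C (g * b) = cellOf C g := by simpa using cellOf_mul C g (one_mem _) hb

theorem cellOf_inv (g : ↥(D.group F)) : cellOf C g⁻¹ = (cellOf C g)⁻¹ :=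
  cellOf_eq C _ (inv_mem (nw_mem C (cellOf C g).2))
    (Moves.inv C (nw_mem C (cellOf C g).2) (nw_moves C (cellOf C g).2))
    (C.inv_mem_bigCell (exists_cell C g).choose_spec)

theorem exists_double (g : ↥(D.group F)) :
    ∃ a ∈ BG D F, ∃ b ∈ BG D F, g = a * nWG C (cellOf C g) * b := by
  obtain ⟨a, ha, b, hb, h⟩ := C.mem_bigCell.1 (exists_cell C g).choose_spec
  exact ⟨⟨a, C.borel_le_group ha⟩, ha, ⟨b, C.borel_le_group hb⟩, hb, Subtype.ext h⟩

variable [Fintype F]

/-- The root element inside the group. -/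
noncomputable def xG (i : Fin D.rank) (t : F) : ↥(D.group F) :=
  ⟨C.xGL (D.simple i.val) t, C.xGL_mem_group _ _⟩

theorem cell_s_mul (i : Fin D.rank) (t : F) (v : C.hR.weyl) :
    cellOf C (C.nSG i * xG C i t * nWG C v) =
      if (weylSetup C).pos i v ∨ t = 0 then (weylSetup C).s i * v else v := by
  set p := D.simple i.val with hp
  set n := nw C v.1 with hn
  have hnN : n ∈ D.monomialSubgroup F := nw_mem C v.2
  have hnv : C.Moves n v.1 := nw_moves C v.2
  have hmN : C.nS i * n ∈ D.monomialSubgroup F := mul_mem (C.nS_mem_monomial i) hnN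
  have hm : C.Moves (C.nS i * n) ((weylSetup C).s i * v : C.hR.weyl).1 :=
    Moves.mul C (Acts.moves C (C.acts_nS i)) hnv
  by_cases h : (weylSetup C).pos i v ∨ t = 0
  · rw [if_pos h]
    refine cellOf_eq C _ hmN hm ?_
    show C.nS i * C.xGL p t * n ∈ _
    rcases h with h | rfl
    · obtain ⟨u, hu⟩ := hnv.2 |> fun _ => (Moves.inv C hnN hnv).2 (sroot C.R i) t
      rw [inv_inv] at hu
      refine C.mem_bigCell.2 ⟨1, one_mem _, _, C.pos_mem_borel ((pos_iff C i v).1 h) u, ?_⟩
      rw [← hu]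
      show C.nS i * C.xGL p t * n = 1 * (C.nS i * n) * (n⁻¹ * C.xGL p t * n)
      group
    · simpa [C.xGL_zero] using C.self_mem_bigCell (C.nS i * n)
  · rw [if_neg h]
    rw [not_or] at h
    obtain ⟨hneg, ht⟩ := h
    obtain ⟨z, hz⟩ := (Acts.moves C (C.acts_nS i)).2 (sroot C.R i) t
    rw [show C.hR.sPerm i (sroot C.R i) = C.pNeg i from C.sPerm_pRoot i] at hz
    have hz0 : z ≠ 0 := by
      intro h0
      rw [h0, C.xGL_zero, mul_inv_eq_one, mul_eq_left] at hz
      exact ht ((C.xGL_eq_one_iff (C.R.simple_lt i)).1 hz)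
    obtain ⟨d, hd⟩ : ∃ d, C.nGL p (-z⁻¹) = C.R.torus d * C.nS i :=
      ⟨_, C.nGL_simple i (Units.mk0 (-z⁻¹) (by simpa using hz0))⟩
    have hp' : D.IsPosRoot (((weylSetup C).s i * v : C.hR.weyl).1⁻¹ (sroot C.R i)) :=
      (pos_iff C i _).1 (((weylSetup C).pos_iff_not i v).2 hneg)
    obtain ⟨u, hu⟩ := (Moves.inv C hmN hm).2 (sroot C.R i) z⁻¹
    rw [inv_inv] at hu
    have hnn : C.Moves (C.nS i * (C.nS i * n)) v.1 := by
      have := Moves.mul C (Acts.moves C (C.acts_nS i)) hm
      rwa [show C.hR.sPerm i * ((weylSetup C).s i * v : C.hR.weyl).1 = v.1 by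
        show C.hR.sPerm i * (C.hR.sPerm i * v.1) = v.1
        rw [← mul_assoc, C.hR.sPerm_mul_self, one_mul]] at this
    refine cellOf_eq C _ (mul_mem (C.nS_mem_monomial i) hmN) hnn (C.mem_bigCell.2
      ⟨C.xGL p z⁻¹ * C.R.torus d, mul_mem (C.pos_mem_borel (C.R.simple_pos i) _) (C.torus_mem_borel d),
        _, C.pos_mem_borel hp' u, ?_⟩)
    have hz' : C.nS i * C.xGL p t * (C.nS i)⁻¹ = C.xGL (D.neg p) z := hz
    show C.nS i * C.xGL p t * n = _
    rw [show C.nS i * C.xGL p t * n = (C.nS i * C.xGL p t * (C.nS i)⁻¹) * (C.nS i * n) by group, hz',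
      C.xGL_neg_eq p hz0, hd, ← hu]
    show _ = C.xGL p z⁻¹ * C.R.torus d * (C.nS i * (C.nS i * n)) *
      ((C.nS i * n)⁻¹ * C.xGL p z⁻¹ * (C.nS i * n))
    group

theorem cell_s_bijective (i : Fin D.rank) :
    Function.Bijective fun z : BG D F × F => (⟨(z.1 : ↥(D.group F)) * C.nSG i * xG C i z.2, by
      refine cellOf_eq C _ (C.nS_mem_monomial i) (Acts.moves C (C.acts_nS i)) ?_
      exact C.mem_bigCell.2 ⟨_, z.1.2, _, C.pos_mem_borel (C.R.simple_pos i) z.2, rfl⟩⟩ :
        {y : ↥(D.group F) // cellOf C y = (weylSetup C).s i}) := by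
  constructor
  · rintro ⟨b, t⟩ ⟨b', t'⟩ h
    have h1 : (b : GL D.Idx F) * C.nS i * C.xGL (D.simple i.val) t =
        (b' : GL D.Idx F) * C.nS i * C.xGL (D.simple i.val) t' := congrArg (fun y => (y.1 : GL D.Idx F)) h
    obtain ⟨z, hz⟩ := (Acts.moves C (C.acts_nS i)).2 (sroot C.R i) (t + -t')
    rw [show C.hR.sPerm i (sroot C.R i) = C.pNeg i from C.sPerm_pRoot i] at hz
    have hz' : C.nS i * C.xGL (D.simple i.val) (t + -t') * (C.nS i)⁻¹ = C.xGL (D.neg (D.simple i.val)) z := hz
    have hmem : C.xGL (D.neg (D.simple i.val)) z ∈ D.borelSubgroup F := by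
      rw [← hz', C.xGL_add, ← C.xGL_inv]
      rw [show C.nS i * (C.xGL (D.simple i.val) t * (C.xGL (D.simple i.val) t')⁻¹) * (C.nS i)⁻¹ =
        ((b : GL D.Idx F))⁻¹ * (b' : GL D.Idx F) by
          have h2 := congrArg (fun y => (b : GL D.Idx F)⁻¹ * y * (C.xGL (D.simple i.val) t')⁻¹ * (C.nS i)⁻¹) h1
          simpa [mul_assoc] using h2]
      exact mul_mem (inv_mem b.2) b'.2
    have hneg : D.IsNegRoot (D.neg (D.simple i.val)) := (C.R.isNeg_neg_iff (C.R.simple_lt i)).2 (C.R.simple_pos i)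
    have h3 := (Subgroup.eq_bot_iff_forall _).1 C.borel_inf_negUnipotent _
      (Subgroup.mem_inf.2 ⟨hmem, C.xGL_mem_negUnipotent hneg z⟩)
    rw [h3, mul_inv_eq_one, mul_eq_left] at hz'
    have htt : t = t' := by
      have := (C.xGL_eq_one_iff (C.R.simple_lt i)).1 hz'
      rwa [add_neg_eq_zero] at this
    subst htt
    exact Prod.ext (Subtype.ext (Subtype.ext (mul_right_cancel (mul_right_cancel h1)))) rfl
  · rintro ⟨y, hy⟩
    have hmem : (y : GL D.Idx F) ∈ C.bigCell (C.nS i) := by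
      refine C.bigCell_trans (exists_cell C y).choose_spec ?_
      have hc : cellOf C y = (weylSetup C).s i := hy
      show nw C (cellOf C y).1 ∈ _
      rw [hc]
      have hd : (C.nS i)⁻¹ * nw C (C.hR.sPerm i) ∈ D.diagonalSubgroup F := by
        have hmv := Moves.mul C (Moves.inv C (C.nS_mem_monomial i) (Acts.moves C (C.acts_nS i)))
          (nw_moves C (C.hR.sPerm_mem i))
        rw [inv_mul_cancel] at hmv
        exact C.mem_diagonal_of_moves_one
          (mul_mem (inv_mem (C.nS_mem_monomial i)) (nw_mem C (C.hR.sPerm_mem i))) hmv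
      exact C.mem_bigCell.2 ⟨1, one_mem _, _, diagonal_le_borel hd, by
        show nw C (C.hR.sPerm i) = 1 * C.nS i * ((C.nS i)⁻¹ * nw C (C.hR.sPerm i))
        group⟩
    obtain ⟨a, ha, b, hb, hyab⟩ := C.mem_bigCell.1 hmem
    obtain ⟨v, hv, t, c, rfl⟩ := C.borel_decomp i hb
    obtain ⟨t', ht'⟩ := (Moves.inv C (C.torus_mem_monomial c) (C.moves_torus c)).2 (sroot C.R i) t
    rw [inv_inv, inv_one, Equiv.Perm.one_apply] at ht'
    have ht'' : (C.R.torus c)⁻¹ * C.xGL (D.simple i.val) t * C.R.torus c = C.xGL (D.simple i.val) t' := ht'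
    set a' := a * (C.nS i * v * (C.nS i)⁻¹) * (C.nS i * C.R.torus c * (C.nS i)⁻¹) with ha'
    have ha'B : a' ∈ D.borelSubgroup F := mul_mem (mul_mem ha
      (le_sup_left (b := D.diagonalSubgroup F) (C.Usub_le i (C.nS_conj_Usub i v hv))))
      (C.conj_torus_mem_borel (C.nS_mem_monomial i) c)
    refine ⟨(⟨⟨a', C.borel_le_group ha'B⟩, ha'B⟩, t'), Subtype.ext (Subtype.ext ?_)⟩
    show a' * C.nS i * C.xGL (D.simple i.val) t' = (y : GL D.Idx F)
    rw [hyab, ha', ← ht'']
    group

variable [Fintype ↥(D.group F)]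

/-- Extension of a function on the Weyl group to a bi-invariant function. -/
noncomputable def pull : (C.hR.weyl → ℂ) →ₗ[ℂ] (↥(D.group F) → ℂ) where
  toFun f g := f (cellOf C g)
  map_add' _ _ := rfl
  map_smul' _ _ := rfl

theorem pull_injective : Function.Injective (pull C) := fun f g h => funext fun w => by
  simpa [pull, cellOf_nWG] using congrFun h (nWG C w)

/-- Left translation by a double coset function. -/
noncomputable def conv (φ : ↥(D.group F) → ℂ) (Φ : ↥(D.group F) → ℂ) (x : ↥(D.group F)) : ℂ :=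
  (Nat.card (BG D F) : ℂ)⁻¹ * ∑ y, φ y * Φ (y⁻¹ * x)

theorem conv_simple (i : Fin D.rank) (f : C.hR.weyl → ℂ) :
    conv (pull C (Pi.single ((weylSetup C).s i) 1)) (pull C f) =
      pull C ((weylSetup C).Lg (Fintype.card F : ℂ) i *ᵥ f) := by
  set S := weylSetup C
  funext x
  obtain ⟨a, ha, b, hb, hx⟩ := exists_double C x
  set v := cellOf C x
  have hB : (Nat.card (BG D F) : ℂ) ≠ 0 := Nat.cast_ne_zero.2 Nat.card_pos.ne'
  have h1 : ∑ y, pull C (Pi.single (S.s i) 1) y * pull C f (y⁻¹ * x) =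
      ∑ y : {y : ↥(D.group F) // cellOf C y = S.s i}, f (cellOf C ((y : ↥(D.group F)) * nWG C v)) := by
    rw [← Finset.sum_subtype (Finset.univ.filter fun y => cellOf C y = S.s i) (by simp)
      (fun y => f (cellOf C (y * nWG C v))), Finset.sum_filter]
    refine Fintype.sum_equiv ((Equiv.inv _).trans (Equiv.mulRight a)) _ _ fun y => ?_
    show (Pi.single (S.s i) 1 : C.hR.weyl → ℂ) (cellOf C y) * f (cellOf C (y⁻¹ * x)) = _
    simp only [Equiv.trans_apply, Equiv.inv_apply, Equiv.coe_mulRight, cellOf_mul_right C _ ha, cellOf_inv]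
    rw [show y⁻¹ * x = 1 * (y⁻¹ * a * nWG C v) * b by rw [hx]; group, cellOf_mul C _ (one_mem _) hb]
    by_cases hc : cellOf C y = S.s i
    · rw [hc, Pi.single_eq_same, one_mul, if_pos (S.s_inv i)]
    · rw [Pi.single_eq_of_ne hc, zero_mul, if_neg fun e => hc (by rw [← inv_inj, e, S.s_inv])]
  rw [conv, h1, ← (Equiv.ofBijective _ (cell_s_bijective C i)).sum_comp]
  simp only [Equiv.ofBijective_apply]
  rw [Fintype.sum_prod_type]
  have h2 : ∀ (b : BG D F) (t : F), cellOf C ((b : ↥(D.group F)) * C.nSG i * xG C i t * nWG C v) =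
      if S.pos i v ∨ t = 0 then S.s i * v else v := fun b t => by
    rw [mul_assoc (b : ↥(D.group F)), mul_assoc (b : ↥(D.group F)), cellOf_mul_left C _ b.2, cell_s_mul]
  simp only [h2, Finset.sum_const, Finset.card_univ, ← Nat.card_eq_fintype_card, nsmul_eq_mul]
  rw [← mul_assoc, inv_mul_cancel₀ hB, one_mul]
  show _ = (S.Lg (Nat.card F : ℂ) i *ᵥ f) v
  rw [S.Lg_mulVec, Nat.card_eq_fintype_card]
  by_cases h : S.pos i v
  · simp [h]
  · simp only [h, false_or, if_false]
    rw [← Finset.add_sum_erase _ _ (Finset.mem_univ (0 : F)), if_pos rfl,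
      Finset.sum_congr rfl fun t ht => by rw [if_neg (Finset.mem_erase.1 ht).1], Finset.sum_const,
      Finset.card_erase_of_mem (Finset.mem_univ _), Finset.card_univ, nsmul_eq_mul,
      Nat.cast_sub Fintype.card_pos, Nat.cast_one]

theorem pull_one_eq : pull C (Pi.single 1 1) = fun g => if g ∈ BG D F then 1 else 0 := by
  funext g
  show (Pi.single 1 1 : C.hR.weyl → ℂ) (cellOf C g) = _
  rw [Pi.single_apply]
  congr 1
  refine propext ⟨fun h => ?_, fun h => cellOf_eq C 1 (one_mem _)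
    (by simpa using C.moves_torus (1 : Fin D.rank → Fˣ)) (C.mem_bigCell.2 ⟨_, h, 1, one_mem _, by simp⟩)⟩
  obtain ⟨a, ha, b, hb, hg⟩ := exists_double C g
  rw [h] at hg
  rw [hg]
  exact mul_mem (mul_mem ha (diagonal_le_borel (C.mem_diagonal_of_moves_one (nw_mem C (one_mem _))
    (nw_moves C (one_mem _))))) hb

theorem pull_list (l : List (Fin D.rank)) (f : C.hR.weyl → ℂ) :
    pull C ((l.map ((weylSetup C).Lg (Fintype.card F : ℂ))).prod *ᵥ f) =
      conv (pull C ((l.map ((weylSetup C).Lg (Fintype.card F : ℂ))).prod *ᵥ Pi.single 1 1)) (pull C f) := by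
  set S := weylSetup C
  induction l with
  | nil =>
    simp only [List.map_nil, List.prod_nil, Matrix.one_mulVec, pull_one_eq]
    funext x
    rw [conv]
    simp only [ite_mul, one_mul, zero_mul, ← Finset.sum_filter]
    rw [Finset.sum_congr rfl (g := fun _ => pull C f x) fun y hy => by
      show f (cellOf C (y⁻¹ * x)) = _
      rw [cellOf_mul_left C _ (inv_mem (Finset.mem_filter.1 hy).2)]; rfl,
      Finset.sum_const, nsmul_eq_mul, ← mul_assoc]
    rw [show (Finset.univ.filter fun y : ↥(D.group F) => y ∈ BG D F).card = Nat.card (BG D F) by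
      rw [Nat.card_eq_fintype_card, Fintype.card_subtype], inv_mul_cancel₀ (Nat.cast_ne_zero.2 Nat.card_pos.ne'),
      one_mul]
  | cons i l ih =>
    simp only [List.map_cons, List.prod_cons, ← Matrix.mulVec_mulVec]
    rw [← conv_simple, ← conv_simple, ih]
    set φ := pull C (Pi.single (S.s i) 1)
    set ψ := pull C ((l.map (S.Lg (Fintype.card F : ℂ))).prod *ᵥ Pi.single 1 1)
    funext x
    simp only [conv, Finset.mul_sum, Finset.sum_mul]
    conv_rhs => rw [Finset.sum_comm]
    refine Finset.sum_congr rfl fun y _ => ?_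
    refine Fintype.sum_equiv (Equiv.mulLeft y) _ _ fun z => ?_
    simp only [Equiv.coe_mulLeft, inv_mul_cancel_left, mul_inv_rev, mul_assoc]
    ring

theorem pull_LW (w : C.hR.weyl) (f : C.hR.weyl → ℂ) :
    pull C ((weylSetup C).LW (Fintype.card F : ℂ) w *ᵥ f) = conv (pull C (Pi.single w 1)) (pull C f) := by
  have h := pull_list C ((weylSetup C).red w) f
  rw [← Setup.LW, (weylSetup C).LW_mulVec_one] at h
  exact h

theorem card_cell (w : C.hR.weyl) :
    ((Finset.univ.filter fun y : ↥(D.group F) => cellOf C y = w).card : ℂ) =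
      Nat.card (BG D F) * (Fintype.card F : ℂ) ^ (weylSetup C).len w := by
  set S := weylSetup C
  have hl : ∀ l : List (Fin D.rank),
      (l.map (S.Lg (Fintype.card F : ℂ))).prod *ᵥ (fun _ => (1 : ℂ)) = fun _ => (Fintype.card F : ℂ) ^ l.length := by
    intro l
    induction l with
    | nil => simp only [List.map_nil, List.prod_nil, Matrix.one_mulVec, List.length_nil, pow_zero]
    | cons i l ih =>
      rw [List.map_cons, List.prod_cons, ← Matrix.mulVec_mulVec, ih]
      funext v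
      rw [S.Lg_mulVec, List.length_cons, pow_succ]
      split_ifs <;> ring
  have h := congrFun (pull_LW C w (fun _ => 1)) 1
  rw [Setup.LW, hl, S.red_length] at h
  simp only [pull, conv, LinearMap.coe_mk, AddHom.coe_mk, mul_one, Pi.single_apply, Finset.sum_boole] at h
  rw [h, ← mul_assoc, mul_inv_cancel₀ (Nat.cast_ne_zero.2 Nat.card_pos.ne'), one_mul]

theorem pull_RW (w : C.hR.weyl) (f : C.hR.weyl → ℂ) (x : ↥(D.group F)) :
    pull C ((weylSetup C).RW (Fintype.card F : ℂ) w *ᵥ f) x =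
      (Nat.card (BG D F) : ℂ)⁻¹ * ∑ y, pull C (Pi.single w 1) y * pull C f (x * y) := by
  show ((weylSetup C).RW (Fintype.card F : ℂ) w *ᵥ f) (cellOf C x) = _
  rw [Setup.RW, Setup.flipM_mulVec, ← cellOf_inv]
  refine (congrFun (pull_LW C w fun u => f u⁻¹) x⁻¹).trans ?_
  show (Nat.card (BG D F) : ℂ)⁻¹ * _ = _
  congr 1
  refine Finset.sum_congr rfl fun y _ => ?_
  congr 1
  show f (cellOf C (y⁻¹ * x⁻¹))⁻¹ = f (cellOf C (x * y))
  rw [← cellOf_inv, mul_inv_rev, inv_inv, inv_inv]

theorem sum_cell (w : C.hR.weyl) (φ : ↥(D.group F) → ℂ) {y : ↥(D.group F)} (hy : cellOf C y = w) :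
    ((Finset.univ.filter fun z : ↥(D.group F) => cellOf C z = w).card : ℂ) *
        ∑ p : BG D F × BG D F, φ ((p.1 : ↥(D.group F)) * y * p.2) =
      (Nat.card (BG D F) : ℂ) * Nat.card (BG D F) *
        ∑ z ∈ Finset.univ.filter (fun z : ↥(D.group F) => cellOf C z = w), φ z := by
  set T := Finset.univ.filter fun z : ↥(D.group F) => cellOf C z = w with hT
  let g : BG D F × BG D F → ↥(D.group F) := fun p => (p.1 : ↥(D.group F)) * y * p.2
  have hg : ∀ p ∈ (Finset.univ : Finset (BG D F × BG D F)), g p ∈ T := fun p _ => by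
    rw [hT, Finset.mem_filter, cellOf_mul C y p.1.2 p.2.2]
    exact ⟨Finset.mem_univ _, hy⟩
  set K := (Finset.univ.filter fun p => g p = y).card with hK
  have hfib : ∀ z ∈ T, (Finset.univ.filter fun p => g p = z).card = K := by
    intro z hz
    rw [hT, Finset.mem_filter] at hz
    obtain ⟨a, ha, b, hb, hzab⟩ := exists_double C z
    obtain ⟨a', ha', b', hb', hyab⟩ := exists_double C y
    rw [hz.2] at hzab
    rw [hy] at hyab
    have hzy : z = (a * a'⁻¹) * y * (b'⁻¹ * b) := by rw [hzab, hyab]; group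
    refine Finset.card_equiv ((Equiv.mulLeft (⟨a * a'⁻¹, mul_mem ha (inv_mem ha')⟩ : BG D F)⁻¹).prodCongr
      (Equiv.mulRight (⟨b'⁻¹ * b, mul_mem (inv_mem hb') hb⟩ : BG D F)⁻¹)) fun p => ?_
    simp only [Finset.mem_filter, Finset.mem_univ, true_and, g, Equiv.prodCongr_apply, Prod.map_fst, Prod.map_snd,
      Equiv.coe_mulLeft, Equiv.coe_mulRight, Subgroup.coe_mul, InvMemClass.coe_inv]
    constructor
    · intro h
      rw [show (a * a'⁻¹)⁻¹ * (p.1 : ↥(D.group F)) * y * ((p.2 : ↥(D.group F)) * (b'⁻¹ * b)⁻¹) =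
        (a * a'⁻¹)⁻¹ * ((p.1 : ↥(D.group F)) * y * p.2) * (b'⁻¹ * b)⁻¹ by group, h, hzy]
      group
    · intro h
      rw [show (p.1 : ↥(D.group F)) * y * p.2 = (a * a'⁻¹) *
        ((a * a'⁻¹)⁻¹ * (p.1 : ↥(D.group F)) * y * ((p.2 : ↥(D.group F)) * (b'⁻¹ * b)⁻¹)) * (b'⁻¹ * b) by group,
        h, ← hzy]
  have hsum : ∑ p, φ (g p) = (K : ℂ) * ∑ z ∈ T, φ z := by
    rw [← Finset.sum_fiberwise_of_maps_to hg, Finset.mul_sum]
    refine Finset.sum_congr rfl fun z hz => ?_
    rw [Finset.sum_congr rfl fun p hp => by rw [(Finset.mem_filter.1 hp).2], Finset.sum_const, hfib z hz,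
      nsmul_eq_mul]
  have hcard : (Nat.card (BG D F) * Nat.card (BG D F) : ℕ) = T.card * K := by
    rw [← Nat.card_prod, Nat.card_eq_fintype_card, ← Finset.card_univ,
      Finset.card_eq_sum_card_fiberwise hg, Finset.sum_congr rfl hfib, Finset.sum_const, smul_eq_mul]
  rw [hsum, ← Nat.cast_mul, hcard, Nat.cast_mul]
  ring

/-- The Casimir operator is the averaged conjugation. -/
theorem pull_casimir (f : C.hR.weyl → ℂ) :
    pull C ((weylSetup C).casimir (Fintype.card F : ℂ) *ᵥ f) =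
      avgR (BG D F) (fun z => (Fintype.card F : ℂ) ^ (Finset.univ.sup (weylSetup C).len) *
        (Nat.card (BG D F) : ℂ)⁻¹ * ∑ y, pull C f (y⁻¹ * z * y)) := by
  set S := weylSetup C
  set q := (Fintype.card F : ℂ) with hq
  set N := Finset.univ.sup S.len with hN
  set nB := (Nat.card (BG D F) : ℂ) with hnB
  have hB : nB ≠ 0 := Nat.cast_ne_zero.2 Nat.card_pos.ne'
  funext x
  let T : C.hR.weyl → Finset ↥(D.group F) := fun w => Finset.univ.filter fun y => cellOf C y = w
  have hterm : ∀ w, pull C (S.LW q w *ᵥ (S.RW q w *ᵥ f)) x =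
      q ^ S.len w * nB⁻¹ * nB⁻¹ * ∑ y ∈ T w, ∑ b : BG D F, pull C f (y⁻¹ * (x * b) * y) := by
    intro w
    have hdef : ∀ (y : ↥(D.group F)) (c : ℂ), pull C (Pi.single w 1) y * c = if cellOf C y = w then c else 0 :=
      fun y c => by
        show (Pi.single w 1 : C.hR.weyl → ℂ) (cellOf C y) * c = _
        rw [Pi.single_apply]; split_ifs <;> simp
    rw [pull_LW]
    show nB⁻¹ * ∑ y, pull C (Pi.single w 1) y * pull C (S.RW q w *ᵥ f) (y⁻¹ * x) = _
    simp only [hdef, ← Finset.sum_filter]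
    rw [Finset.mul_sum, Finset.mul_sum]
    refine Finset.sum_congr rfl fun y hy => ?_
    have hy' : cellOf C y = w := (Finset.mem_filter.1 hy).2
    rw [hq, pull_RW, ← hnB]
    simp only [hdef, ← Finset.sum_filter, ← hq]
    have h := sum_cell C w (fun z => pull C f (y⁻¹ * x * z)) hy'
    rw [card_cell, Fintype.sum_prod_type] at h
    have h2 : ∀ b : BG D F, (∑ b' : BG D F, pull C f (y⁻¹ * x * ((b : ↥(D.group F)) * y * b'))) =
        nB * pull C f (y⁻¹ * (x * b) * y) := fun b => by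
      rw [Finset.sum_congr rfl (g := fun _ => pull C f (y⁻¹ * (x * b) * y)) fun b' _ => by
        show f (cellOf C _) = f (cellOf C _)
        rw [show y⁻¹ * x * ((b : ↥(D.group F)) * y * b') = (y⁻¹ * (x * b) * y) * b' by group,
          cellOf_mul_right C _ b'.2],
        Finset.sum_const, Finset.card_univ, ← Nat.card_eq_fintype_card, nsmul_eq_mul]
    simp only [h2, ← Finset.mul_sum, ← hnB, ← hq] at h
    show nB⁻¹ * (nB⁻¹ * ∑ z ∈ T w, pull C f (y⁻¹ * x * z)) =
      q ^ S.len w * nB⁻¹ * nB⁻¹ * ∑ b : BG D F, pull C f (y⁻¹ * (x * b) * y)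
    field_simp
    exact mul_left_cancel₀ (mul_ne_zero hB hB) (by linear_combination -h)
  have hsum : pull C (S.casimir q *ᵥ f) x =
      ∑ w, q ^ (N - S.len w) * pull C (S.LW q w *ᵥ (S.RW q w *ᵥ f)) x := by
    rw [Setup.casimir, Matrix.sum_mulVec, map_sum, Finset.sum_apply]
    refine Finset.sum_congr rfl fun w _ => ?_
    rw [Matrix.smul_mulVec, map_smul, Pi.smul_apply, smul_eq_mul, Matrix.mulVec_mulVec]
  rw [hsum, avgR_apply, ← hnB]
  simp only [hterm, Finset.mul_sum]
  conv_rhs => rw [Finset.sum_comm, ← Finset.sum_fiberwise Finset.univ (cellOf C)]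
  refine Finset.sum_congr rfl fun w _ => Finset.sum_congr rfl fun y _ => Finset.sum_congr rfl fun b _ => ?_
  have : q ^ (N - S.len w) * q ^ S.len w = q ^ N := by
    rw [← pow_add, Nat.sub_add_cancel (Finset.le_sup (Finset.mem_univ w))]
  linear_combination (nB⁻¹ * nB⁻¹ * pull C f (y⁻¹ * (x * b) * y)) * this

/-- The centre is the image of the class functions. -/
theorem map_ker_eq :
    (LinearMap.ker ((weylSetup C).Lam ((Fintype.card F : ℝ) : ℂ)).mulVecLin).map (pull C) =
      (classFun ↥(D.group F)).map (avgR (BG D F)) := by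
  set S := weylSetup C
  have hcast : ((Fintype.card F : ℝ) : ℂ) = (Fintype.card F : ℂ) := Complex.ofReal_natCast _
  refine le_antisymm ?_ ?_
  · rw [← S.range_eq_ker (Nat.cast_pos.2 Fintype.card_pos)]
    rintro _ ⟨_, ⟨g, rfl⟩, rfl⟩
    refine ⟨_, fun z h => ?_, (hcast ▸ pull_casimir C g).symm⟩
    show _ * _ * ∑ y, pull C g (y⁻¹ * (h * z * h⁻¹) * y) = _ * _ * ∑ y, pull C g (y⁻¹ * z * y)
    congr 1
    exact Fintype.sum_equiv (Equiv.mulLeft h⁻¹) _ _ fun y => by
      simp only [Equiv.coe_mulLeft]; congr 1; group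
  · rintro _ ⟨h, hh, rfl⟩
    have hh' : Cfsg.IsClassFunction ↥(D.group F) h := hh
    set f : C.hR.weyl → ℂ := fun w => avgR (BG D F) h (nWG C w) with hf
    have hpull : pull C f = avgR (BG D F) h := by
      funext g
      obtain ⟨a, ha, b, hb, hg⟩ := exists_double C g
      show avgR (BG D F) h (nWG C (cellOf C g)) = _
      conv_rhs => rw [hg, avgR_right _ _ _ hb, avgR_left _ hh' _ ha]
    refine ⟨f, (S.mem_ker_Lam _ _).2 fun i => pull_injective C ?_, hpull⟩
    rw [hcast]
    set T := pull C (Pi.single (S.s i) 1)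
    have hTr : ∀ (y : ↥(D.group F)) {b : ↥(D.group F)}, b ∈ BG D F → T (y * b) = T y := fun y b hb => by
      show (Pi.single (S.s i) 1 : C.hR.weyl → ℂ) (cellOf C _) = _
      rw [cellOf_mul_right C _ hb]; rfl
    have hTl : ∀ (y : ↥(D.group F)) {b : ↥(D.group F)}, b ∈ BG D F → T (b * y) = T y := fun y b hb => by
      show (Pi.single (S.s i) 1 : C.hR.weyl → ℂ) (cellOf C _) = _
      rw [cellOf_mul_left C _ hb]; rfl
    have hB : (Nat.card (BG D F) : ℂ) ≠ 0 := Nat.cast_ne_zero.2 Nat.card_pos.ne'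
    funext x
    have hR : pull C (S.Rg (Fintype.card F : ℂ) i *ᵥ f) x =
        (Nat.card (BG D F) : ℂ)⁻¹ * ∑ z, avgR (BG D F) h z * T (z⁻¹ * x) := by
      show (S.Rg (Fintype.card F : ℂ) i *ᵥ f) (cellOf C x) = _
      rw [Setup.Rg, Setup.flipM_mulVec, ← cellOf_inv]
      refine (congrFun (conv_simple C i fun u => f u⁻¹) x⁻¹).symm.trans ?_
      rw [conv]
      congr 1
      refine Fintype.sum_equiv ((Equiv.mulLeft x).trans (Equiv.refl _)) _ _ fun y => ?_
      simp only [Equiv.trans_apply, Equiv.refl_apply, Equiv.coe_mulLeft]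
      have e1 : f (cellOf C (y⁻¹ * x⁻¹))⁻¹ = avgR (BG D F) h (x * y) := by
        rw [← hpull]
        show _ = f (cellOf C _)
        rw [← cellOf_inv, mul_inv_rev, inv_inv, inv_inv]
      have e2 : T ((x * y)⁻¹ * x) = T y := by
        show (Pi.single (S.s i) 1 : C.hR.weyl → ℂ) (cellOf C _) = (Pi.single (S.s i) 1 : C.hR.weyl → ℂ) (cellOf C _)
        rw [mul_inv_rev, inv_mul_cancel_right, cellOf_inv, Pi.single_apply, Pi.single_apply]
        exact if_congr ⟨fun e => by rw [← inv_inj, e, S.s_inv], fun e => by rw [e, S.s_inv]⟩ rfl rfl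
      show T y * f (cellOf C (y⁻¹ * x⁻¹))⁻¹ = _
      rw [e1, e2, mul_comm]
    rw [hR, ← conv_simple, conv, hpull]
    congr 1
    have hL : ∑ y, T y * avgR (BG D F) h (y⁻¹ * x) = ∑ y, T y * h (y⁻¹ * x) := by
      simp only [avgR_apply, Finset.mul_sum]
      rw [Finset.sum_comm]
      rw [Finset.sum_congr rfl (g := fun _ => (Nat.card (BG D F) : ℂ)⁻¹ * ∑ y, T y * h (y⁻¹ * x)) fun b _ => ?_,
        Finset.sum_const, Finset.card_univ, ← Nat.card_eq_fintype_card, nsmul_eq_mul, ← mul_assoc,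
        mul_inv_cancel₀ hB, one_mul]
      rw [Finset.mul_sum]
      refine Fintype.sum_equiv (Equiv.mulRight ((b : ↥(D.group F))⁻¹)) _ _ fun y => ?_
      simp only [Equiv.coe_mulRight, hTr y (inv_mem b.2), mul_inv_rev, inv_inv]
      rw [CfsgLib.Characters.classFunction_mul_comm hh' (y⁻¹ * x) b, mul_assoc]
      ring
    have hRr : ∑ z, avgR (BG D F) h z * T (z⁻¹ * x) = ∑ z, h z * T (z⁻¹ * x) := by
      simp only [avgR_apply, Finset.mul_sum, Finset.sum_mul]
      rw [Finset.sum_comm]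
      rw [Finset.sum_congr rfl (g := fun _ => (Nat.card (BG D F) : ℂ)⁻¹ * ∑ z, h z * T (z⁻¹ * x)) fun b _ => ?_,
        Finset.sum_const, Finset.card_univ, ← Nat.card_eq_fintype_card, nsmul_eq_mul, ← mul_assoc,
        mul_inv_cancel₀ hB, one_mul]
      rw [Finset.mul_sum]
      refine Fintype.sum_equiv (Equiv.mulRight (b : ↥(D.group F))) _ _ fun z => ?_
      simp only [Equiv.coe_mulRight, mul_inv_rev, mul_assoc, hTl _ (inv_mem b.2)]
    rw [hL, hRr]
    refine Fintype.sum_equiv ((Equiv.inv _).trans (Equiv.mulLeft x)) _ _ fun y => ?_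
    simp only [Equiv.trans_apply, Equiv.inv_apply, Equiv.coe_mulLeft, mul_inv_rev, inv_inv, inv_mul_cancel_right]
    rw [CfsgLib.Characters.classFunction_mul_comm hh' y⁻¹ x, mul_comm]

/-- The constituents of the permutation character on the Borel subgroup are as many as the classes of the Weyl group. -/
theorem card_borel_constituents :
    Nat.card {χ : Cfsg.IrrCharacter ↥(D.group F) //
      ∃ φ : ↥(D.group F) → ℂ, Cfsg.IsCharacter ↥(D.group F) φ ∧
        Cfsg.fixedPointCharacter (BG D F) = (χ : ↥(D.group F) → ℂ) + φ} =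
      Nat.card (ConjClasses C.cox.M.Group) := by
  rw [card_constituents, ← map_ker_eq C,
    ← (Submodule.equivMapOfInjective _ (pull_injective C) _).finrank_eq,
    (weylSetup C).finrank_center (Nat.cast_pos.2 Fintype.card_pos)]
  refine Nat.card_congr (Quotient.congr C.cox.equivWeyl.symm.toEquiv fun a b => ?_)
  refine ⟨fun h => C.cox.equivWeyl.symm.toMonoidHom.map_isConj h, fun h => ?_⟩
  have h' := C.cox.equivWeyl.toMonoidHom.map_isConj (show IsConj (C.cox.equivWeyl.symm a) (C.cox.equivWeyl.symm b) from h)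
  rw [MulEquiv.coe_toMonoidHom, MulEquiv.apply_symm_apply, MulEquiv.apply_symm_apply] at h'
  exact h' 

end CfsgLib.HeckeCenter
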