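import Cfsg.Agent.Lib.Characters.Decomp
import Cfsg.Agent.Lib.Characters.Generalized
import Cfsg.Agent.Lib.GLFlags.PermChar
import Cfsg.Agent.Lib.Characters.PermChar

/-!
Averaging class functions over a subgroup: the rank is the number of constituents of the permutation character.
-/

set_option autoImplicit false

namespace CfsgLib.HeckeCenter

open Cfsg CfsgLib.Characters
open scoped ComplexConjugate

variable {G : Type*} [Group G] [Fintype G] (B : Subgroup G) [Fintype B]

/-- Averaging over the subgroup from the right. -/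
noncomputable def avgR : (G → ℂ) →ₗ[ℂ] (G → ℂ) where
  toFun h x := (Nat.card B : ℂ)⁻¹ * ∑ b : B, h (x * b)
  map_add' h k := by funext x; simp [Finset.sum_add_distrib, mul_add]
  map_smul' c h := by funext x; simp [Finset.mul_sum]; congr 1; funext b; ring

theorem avgR_apply (h : G → ℂ) (x : G) : avgR B h x = (Nat.card B : ℂ)⁻¹ * ∑ b : B, h (x * b) := rfl

theorem avgR_right (h : G → ℂ) (x : G) {b : G} (hb : b ∈ B) : avgR B h (x * b) = avgR B h x := by
  rw [avgR_apply, avgR_apply]
  congr 1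
  exact Fintype.sum_equiv (Equiv.mulLeft (⟨b, hb⟩ : B)) _ _ fun b' => by simp [mul_assoc]

theorem avgR_left {h : G → ℂ} (hh : IsClassFunction G h) (x : G) {b : G} (hb : b ∈ B) :
    avgR B h (b * x) = avgR B h x := by
  rw [avgR_apply, avgR_apply]
  congr 1
  refine Fintype.sum_equiv (Equiv.mulRight (⟨b, hb⟩ : B)) _ _ fun b' => ?_
  rw [mul_assoc b, classFunction_mul_comm hh b, mul_assoc x]
  rfl

/-- The class functions. -/
def classFun (G : Type*) [Group G] : Submodule ℂ (G → ℂ) where
  carrier := {h | IsClassFunction G h}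
  add_mem' ha hb := isClassFunction_add ha hb
  zero_mem' _ _ := rfl
  smul_mem' c _ ha := isClassFunction_smul ha c

/-- The generalised orthogonality relation. -/
theorem sum_mul_shift [DecidableEq (IrrCharacter G)] (χ ψ : IrrCharacter G) (b : G) :
    ∑ x : G, χ.1 (x * b) * conj (ψ.1 x) =
      if χ = ψ then (Nat.card G : ℂ) * χ.1 b / χ.1 1 else 0 := by
  have hsub : ∑ x : G, χ.1 (x * b) * conj (ψ.1 x) = ∑ y : G, χ.1 y⁻¹ * ψ.1 (b * y) := by
    refine Fintype.sum_equiv ((Equiv.mulRight b).trans (Equiv.inv G)) _ _ fun x => ?_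
    show χ.1 (x * b) * conj (ψ.1 x) = χ.1 ((x * b)⁻¹)⁻¹ * ψ.1 (b * (x * b)⁻¹)
    rw [inv_inv, mul_inv_rev, mul_inv_cancel_left, irr_apply_inv ψ]
  have hG : (Nat.card G : ℂ) ≠ 0 := Nat.cast_ne_zero.2 Nat.card_pos.ne'
  obtain ⟨n, ρ, hρ, hψ⟩ := ψ.2
  haveI := hρ
  have hcl : IsClassFunction G fun y => χ.1 y⁻¹ := fun g h => by
    show χ.1 (h * g * h⁻¹)⁻¹ = χ.1 g⁻¹
    rw [show (h * g * h⁻¹)⁻¹ = h * g⁻¹ * h⁻¹ by group, irr_isClassFunction χ g⁻¹ h]
  have hsc : ∑ g : G, χ.1 g⁻¹ * ρ.character g = (Nat.card G : ℂ) * classInner ψ.1 χ.1 := by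
    rw [classInner, ← mul_assoc, mul_inv_cancel₀ hG, one_mul, hψ]
    exact Finset.sum_congr rfl fun g _ => by rw [irr_apply_inv χ, mul_comm]
  have h := congrArg (fun T => LinearMap.trace ℂ _ (ρ b * T)) (funEnd_eq_smul ρ hcl)
  simp only [funEnd, Finset.mul_sum, map_sum, mul_smul_comm, map_smul, mul_one, smul_eq_mul, ← map_mul] at h
  have hdeg : ψ.1 1 = (Module.finrank ℂ (Fin n → ℂ) : ℂ) := by rw [← hψ, Representation.char_one]
  rw [hsub]
  calc ∑ y : G, χ.1 y⁻¹ * ψ.1 (b * y)
      = (∑ g : G, χ.1 g⁻¹ * ρ.character g) / (Module.finrank ℂ (Fin n → ℂ) : ℂ) * ψ.1 b := by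
        rw [← hψ]; exact h
    _ = _ := by
        rw [hsc, ← hdeg, classInner_irr]
        by_cases hc : χ = ψ
        · subst hc; rw [if_pos rfl, if_pos rfl]; ring
        · rw [if_neg (Ne.symm hc), if_neg hc]; ring

theorem sum_avg_mul [DecidableEq (IrrCharacter G)] (χ ψ : IrrCharacter G) :
    ∑ x : G, avgR B χ.1 x * conj (avgR B ψ.1 x) =
      if χ = ψ then (Nat.card G : ℂ) / (Nat.card B * χ.1 1) * ∑ b : B, χ.1 b else 0 := by
  have hB : (Nat.card B : ℂ) ≠ 0 := Nat.cast_ne_zero.2 Nat.card_pos.ne'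
  have h1 : ∀ b : B, ∑ x : G, avgR B χ.1 x * conj (ψ.1 (x * b)) = ∑ x : G, avgR B χ.1 x * conj (ψ.1 x) := fun b =>
    Fintype.sum_equiv (Equiv.mulRight (b : G)) _ _ fun x => by
      show _ = avgR B χ.1 (x * b) * conj (ψ.1 (x * b))
      rw [avgR_right B _ _ b.2]
  calc ∑ x : G, avgR B χ.1 x * conj (avgR B ψ.1 x)
      = (Nat.card B : ℂ)⁻¹ * ∑ b : B, ∑ x : G, avgR B χ.1 x * conj (ψ.1 (x * b)) := by
        rw [Finset.sum_comm, Finset.mul_sum]
        refine Finset.sum_congr rfl fun x _ => ?_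
        rw [avgR_apply B ψ.1, map_mul, map_inv₀, Complex.conj_natCast, map_sum, Finset.mul_sum, Finset.mul_sum,
          Finset.mul_sum]
        exact Finset.sum_congr rfl fun b _ => by ring
    _ = ∑ x : G, avgR B χ.1 x * conj (ψ.1 x) := by
        rw [Finset.sum_congr rfl fun b _ => h1 b, Finset.sum_const, Finset.card_univ, ← Nat.card_eq_fintype_card,
          nsmul_eq_mul, ← mul_assoc, inv_mul_cancel₀ hB, one_mul]
    _ = (Nat.card B : ℂ)⁻¹ * ∑ b : B, ∑ x : G, χ.1 (x * b) * conj (ψ.1 x) := by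
        rw [Finset.sum_comm, Finset.mul_sum]
        refine Finset.sum_congr rfl fun x _ => ?_
        rw [avgR_apply, Finset.mul_sum, Finset.mul_sum, Finset.sum_mul]
        exact Finset.sum_congr rfl fun b _ => by ring
    _ = _ := by
        simp only [sum_mul_shift]
        by_cases hc : χ = ψ
        · simp only [if_pos hc]
          rw [← Finset.sum_div, ← Finset.mul_sum]
          field_simp
        · simp [if_neg hc]

theorem classInner_fix (χ : IrrCharacter G) :
    classInner (fixedPointCharacter B) χ.1 = (Nat.card B : ℂ)⁻¹ * conj (∑ b : B, χ.1 b) := by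
  have h : fixedPointCharacter B = Cfsg.indFun B (fun _ => 1) :=
    (CfsgLib.PermChar.indFun_one_eq_fixCount B).symm
  rw [h, CfsgLib.Induction.classInner_indFun B _ (irr_isClassFunction χ), classInner, map_sum]
  simp

theorem constituent_iff (χ : IrrCharacter G) :
    (∃ φ : G → ℂ, IsCharacter G φ ∧ fixedPointCharacter B = (χ : G → ℂ) + φ) ↔ ∑ b : B, χ.1 b ≠ 0 := by
  classical
  have hfix := CfsgLib.GLFlags.isCharacter_fixedPointCharacter B
  constructor
  · rintro ⟨φ, hφ, he⟩ h0
    have h1 := classInner_fix B χ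
    obtain ⟨k, hk⟩ := classInner_char_nat hφ (irr_isCharacter χ)
    rw [he, classInner_add_left, classInner_irr_self χ.2, hk, h0, map_zero, mul_zero] at h1
    exact (Nat.cast_add_one_ne_zero (R := ℂ) k) (by linear_combination h1)
  · intro h0
    refine ⟨fixedPointCharacter B - χ.1, isCharacter_iff.2
      ⟨isClassFunction_sub (isClassFunction_of_isCharacter hfix) (irr_isClassFunction χ), fun ψ => ?_⟩,
      (add_sub_cancel _ _).symm⟩
    obtain ⟨k, hk⟩ := classInner_char_nat hfix (irr_isCharacter ψ)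
    rw [classInner_sub_left, hk, classInner_irr]
    by_cases hc : χ = ψ
    · subst hc
      rw [if_pos rfl]
      have hk0 : k ≠ 0 := fun h => by
        rw [h, classInner_fix, Nat.cast_zero, mul_eq_zero, map_eq_zero] at hk
        exact hk.elim (inv_ne_zero (Nat.cast_ne_zero.2 Nat.card_pos.ne')) h0
      exact ⟨k - 1, by rw [Nat.cast_sub (Nat.one_le_iff_ne_zero.2 hk0), Nat.cast_one]⟩
    · exact ⟨k, by rw [if_neg hc, sub_zero]⟩

/-- The number of constituents of the permutation character is the rank of the averaging of class functions. -/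
theorem card_constituents :
    Nat.card {χ : IrrCharacter G //
        ∃ φ : G → ℂ, IsCharacter G φ ∧ fixedPointCharacter B = (χ : G → ℂ) + φ} =
      Module.finrank ℂ ((classFun G).map (avgR B)) := by
  classical
  rw [Nat.card_congr (Equiv.subtypeEquivRight (constituent_iff B))]
  have hG : (Nat.card G : ℂ) ≠ 0 := Nat.cast_ne_zero.2 Nat.card_pos.ne'
  have hB : (Nat.card B : ℂ) ≠ 0 := Nat.cast_ne_zero.2 Nat.card_pos.ne'
  let v : {χ : IrrCharacter G // ∑ b : B, χ.1 b ≠ 0} → (G → ℂ) := fun χ => avgR B χ.1.1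
  have hli : LinearIndependent ℂ v := by
    refine Fintype.linearIndependent_iff.2 fun g hg ψ => ?_
    have h := congrArg (fun u => ∑ x, u x * conj (avgR B ψ.1.1 x)) hg
    simp only [Finset.sum_apply, Pi.smul_apply, smul_eq_mul, Pi.zero_apply, zero_mul, Finset.sum_const_zero,
      Finset.sum_mul, mul_assoc, v] at h
    rw [Finset.sum_comm] at h
    simp only [← Finset.mul_sum, sum_avg_mul] at h
    rw [Finset.sum_eq_single ψ (fun χ _ hne => by rw [if_neg fun e => hne (Subtype.ext e), mul_zero])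
      (fun h => absurd (Finset.mem_univ _) h), if_pos rfl] at h
    exact (mul_eq_zero.1 h).resolve_right (mul_ne_zero (div_ne_zero hG (mul_ne_zero hB (irr_one_ne_zero ψ.1))) ψ.2)
  have hspan : (classFun G).map (avgR B) = Submodule.span ℂ (Set.range v) := by
    refine le_antisymm ?_ (Submodule.span_le.2 ?_)
    · rintro _ ⟨h, hh, rfl⟩
      rw [classFunction_eq_sum (show IsClassFunction G h from hh), map_sum]
      refine Submodule.sum_mem _ fun χ _ => ?_
      rw [map_smul]
      refine Submodule.smul_mem _ _ ?_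
      by_cases h0 : ∑ b : B, χ.1 b = 0
      · suffices e : avgR B χ.1 = 0 by rw [e]; exact zero_mem _
        have h1 := sum_avg_mul B χ χ
        rw [if_pos rfl, h0, mul_zero] at h1
        have h2 : ∑ x : G, Complex.normSq (avgR B χ.1 x) = 0 := by
          have := congrArg Complex.re h1
          simpa [Complex.re_sum, Complex.mul_conj] using this
        funext x
        exact Complex.normSq_eq_zero.1 ((Finset.sum_eq_zero_iff_of_nonneg fun x _ => Complex.normSq_nonneg _).1 h2 x
          (Finset.mem_univ _))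
      · exact Submodule.subset_span ⟨⟨χ, h0⟩, rfl⟩
    · rintro _ ⟨χ, rfl⟩
      exact Submodule.mem_map_of_mem (irr_isClassFunction χ.1)
  rw [hspan, finrank_span_eq_card hli, Nat.card_eq_fintype_card]

end CfsgLib.HeckeCenter
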