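import Mathlib

/-!
The Hecke algebra of a finite reflection group acting on functions, and its Casimir operator.
-/

set_option autoImplicit false

namespace CfsgLib.HeckeCenter

open Matrix

/-- A length function with the properties needed to define the Hecke algebra. -/
structure Setup (W : Type*) [Group W] (I : Type*) where
  s : I → W
  s_sq : ∀ i, s i * s i = 1
  len : W → ℕ
  len_one : len 1 = 0
  len_inv : ∀ v, len v⁻¹ = len v
  len_mul : ∀ i v, len (s i * v) = len v + 1 ∨ len (s i * v) + 1 = len v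
  ind : ∀ P : W → Prop, P 1 → (∀ w i, len (w * s i) = len w + 1 → P w → P (w * s i)) → ∀ w, P w
  key : ∀ i j v, s i * v ≠ v * s j →
    (len (s i * (v * s j)) = len (v * s j) + 1 ↔ len (s i * v) = len v + 1)

variable {W : Type*} [Group W] {I : Type*} (S : Setup W I)

namespace Setup

/-- Multiplication by the reflection goes up. -/
def pos (i : I) (v : W) : Prop := S.len (S.s i * v) = S.len v + 1

theorem s_mul_s (i : I) (v : W) : S.s i * (S.s i * v) = v := by rw [← mul_assoc, S.s_sq, one_mul]

theorem s_inv (i : I) : (S.s i)⁻¹ = S.s i := inv_eq_of_mul_eq_one_right (S.s_sq i)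

theorem s_mul_ne (i : I) (v : W) : S.s i * v ≠ v := fun h => by
  rcases S.len_mul i v with h' | h' <;> rw [h] at h' <;> omega

theorem pos_iff_not (i : I) (v : W) : S.pos i (S.s i * v) ↔ ¬ S.pos i v := by
  rcases S.len_mul i v with h | h <;> simp only [pos, S.s_mul_s] <;> omega

theorem pos_one (i : I) : S.pos i 1 := by
  rcases S.len_mul i 1 with h | h
  · exact h
  · rw [S.len_one] at h; omega

theorem len_prod_le (l : List I) : S.len (l.map S.s).prod ≤ l.length := by
  induction l with
  | nil => simp [S.len_one]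
  | cons i l ih =>
    rw [List.map_cons, List.prod_cons, List.length_cons]
    rcases S.len_mul i (l.map S.s).prod with h | h <;> omega

theorem exists_red : ∀ w, ∃ l : List I, (l.map S.s).prod = w ∧ l.length = S.len w := by
  refine S.ind _ ⟨[], rfl, S.len_one.symm⟩ fun w i h => ?_
  rintro ⟨l, rfl, hl⟩
  exact ⟨l ++ [i], by simp, by rw [h, List.length_append, hl]; rfl⟩

/-- A reduced word. -/
noncomputable def red (w : W) : List I := (S.exists_red w).choose

theorem red_prod (w : W) : ((S.red w).map S.s).prod = w := (S.exists_red w).choose_spec.1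

theorem red_length (w : W) : (S.red w).length = S.len w := (S.exists_red w).choose_spec.2

variable {R : Type*} [CommRing R] [DecidableEq W]

/-- Left multiplication by a standard generator. -/
def Lg (a : R) (i : I) : Matrix W W R := Matrix.of fun v u =>
  if u = S.s i * v then (if S.len (S.s i * v) = S.len v + 1 then a else 1)
  else if u = v ∧ ¬ S.len (S.s i * v) = S.len v + 1 then a - 1 else 0

/-- Inversion of the argument. -/
def flipM (M : Matrix W W R) : Matrix W W R := M.submatrix (·⁻¹) (·⁻¹)

/-- Right multiplication by a standard generator. -/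
def Rg (a : R) (i : I) : Matrix W W R := flipM (S.Lg a i)

theorem flipM_flipM (M : Matrix W W R) : flipM (flipM M) = M := by ext v u; simp [flipM]

variable [Fintype W]

theorem flipM_one : flipM (1 : Matrix W W R) = 1 :=
  Matrix.submatrix_one_equiv (Equiv.inv W)

theorem flipM_mul (M N : Matrix W W R) : flipM (M * N) = flipM M * flipM N :=
  (Matrix.submatrix_mul_equiv M N _ (Equiv.inv W) _).symm

theorem flipM_mulVec (M : Matrix W W R) (f : W → R) (v : W) :
    (flipM M *ᵥ f) v = (M *ᵥ fun u => f u⁻¹) v⁻¹ := by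
  rw [Matrix.mulVec, Matrix.mulVec, dotProduct, dotProduct]
  refine Fintype.sum_equiv (Equiv.inv W) _ _ fun u => ?_
  simp [flipM]

open scoped Classical in
theorem Lg_mulVec (a : R) (i : I) (f : W → R) (v : W) :
    (S.Lg a i *ᵥ f) v = if S.pos i v then a * f (S.s i * v) else f (S.s i * v) + (a - 1) * f v := by
  classical
  rw [Matrix.mulVec, dotProduct]
  by_cases h : S.pos i v
  · rw [if_pos h, Finset.sum_eq_single (S.s i * v)]
    · rw [Lg, of_apply, if_pos rfl, if_pos (show S.len (S.s i * v) = S.len v + 1 from h)]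
    · intro u _ hu
      rw [Lg, of_apply, if_neg hu, if_neg fun h' => h'.2 h, zero_mul]
    · simp
  · rw [if_neg h, Fintype.sum_eq_add (S.s i * v) v (S.s_mul_ne i v)]
    · rw [Lg, of_apply, of_apply, if_pos rfl, if_neg (show ¬ S.len (S.s i * v) = S.len v + 1 from h), one_mul,
        if_neg (S.s_mul_ne i v).symm,
        if_pos ⟨rfl, h⟩]
    · intro u hu
      rw [Lg, of_apply, if_neg hu.1, if_neg fun h' => hu.2 h'.1, zero_mul]

open scoped Classical in
theorem Rg_mulVec (a : R) (i : I) (f : W → R) (v : W) :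
    (S.Rg a i *ᵥ f) v = if S.pos i v⁻¹ then a * f (v * S.s i) else f (v * S.s i) + (a - 1) * f v := by
  rw [Rg, flipM_mulVec, S.Lg_mulVec]
  simp only [_root_.mul_inv_rev, inv_inv, S.s_inv]

theorem ext_mulVec {M N : Matrix W W R} (h : ∀ f, M *ᵥ f = N *ᵥ f) : M = N :=
  Matrix.ext_of_mulVec_single fun i => h _

/-- Left and right generators commute. -/
theorem commute_Lg_Rg (a : R) (i j : I) : Commute (S.Lg a i) (S.Rg a j) := by
  classical
  refine ext_mulVec fun f => funext fun v => ?_
  rw [← Matrix.mulVec_mulVec, ← Matrix.mulVec_mulVec]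
  simp only [S.Lg_mulVec, S.Rg_mulVec]
  have hinv : ∀ x : W, S.pos j x⁻¹ ↔ S.len (x * S.s j) = S.len x + 1 := fun x => by
    rw [pos, S.len_inv, ← S.len_inv (S.s j * x⁻¹), _root_.mul_inv_rev, inv_inv, S.s_inv]
  by_cases hd : S.s i * v = v * S.s j
  · have e1 : S.pos j v⁻¹ ↔ S.pos i v := by rw [hinv, pos, hd]
    have e2 : S.pos j (S.s i * v)⁻¹ ↔ ¬ S.pos i v := by
      rw [hd, _root_.mul_inv_rev, S.s_inv, S.pos_iff_not, e1]
    have e3 : S.pos i (v * S.s j) ↔ ¬ S.pos i v := by rw [← hd, S.pos_iff_not]
    have e4 : S.s i * (v * S.s j) = v := by rw [← hd, S.s_mul_s]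
    have e5 : S.s i * v * S.s j = v := by rw [hd, mul_assoc, S.s_sq, mul_one]
    simp only [e1, e2, e3, e4, e5]
    by_cases h : S.pos i v <;> simp only [h, if_true, if_false, not_true, not_false_iff, hd] <;> ring
  · have e1 : S.pos i (v * S.s j) ↔ S.pos i v := S.key i j v hd
    have e2 : S.pos j (S.s i * v)⁻¹ ↔ S.pos j v⁻¹ := by
      rw [_root_.mul_inv_rev, S.s_inv]
      refine S.key j i v⁻¹ fun h => hd ?_
      have := congrArg (·⁻¹) h
      simp only [_root_.mul_inv_rev, inv_inv, S.s_inv] at this
      exact this.symm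
    simp only [e1, e2, mul_assoc]
    by_cases h : S.pos i v <;> by_cases h' : S.pos j v⁻¹ <;> simp only [h, h', if_true, if_false] <;> ring

/-- Matrices commuting with all right generators. -/
def InComm (a : R) (M : Matrix W W R) : Prop := ∀ j, Commute M (S.Rg a j)

/-- Left multiplication by a standard basis element. -/
noncomputable def LW (a : R) (w : W) : Matrix W W R := ((S.red w).map (S.Lg a)).prod

/-- Right multiplication by a standard basis element. -/
noncomputable def RW (a : R) (w : W) : Matrix W W R := flipM (S.LW a w)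

theorem inComm_list (a : R) (l : List I) : S.InComm a (l.map (S.Lg a)).prod := fun j => by
  refine (Commute.list_prod_right _ _ ?_).symm
  intro x hx
  obtain ⟨i, -, rfl⟩ := List.mem_map.1 hx
  exact (S.commute_Lg_Rg a i j).symm

theorem flipM_list (a : R) (l : List I) : flipM (l.map (S.Lg a)).prod = (l.map (S.Rg a)).prod := by
  induction l with
  | nil => exact flipM_one
  | cons i l ih => rw [List.map_cons, List.map_cons, List.prod_cons, List.prod_cons, flipM_mul, ih]; rfl

theorem InComm.commute_RW {a : R} {M : Matrix W W R} (h : S.InComm a M) (w : W) : Commute M (S.RW a w) := by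
  rw [RW, LW, S.flipM_list]
  refine Commute.list_prod_right _ _ ?_
  intro x hx
  obtain ⟨i, -, rfl⟩ := List.mem_map.1 hx
  exact h i

theorem list_mulVec_one (a : R) (l : List I) (hl : S.len (l.map S.s).prod = l.length) :
    (l.map (S.Lg a)).prod *ᵥ Pi.single 1 1 = Pi.single (l.map S.s).prod 1 := by
  classical
  induction l with
  | nil => simp only [List.map_nil, List.prod_nil, Matrix.one_mulVec]
  | cons i l ih =>
    rw [List.map_cons, List.prod_cons, List.length_cons] at hl
    have h1 := S.len_prod_le l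
    have h2 := S.len_mul i (l.map S.s).prod
    have hl' : S.len (l.map S.s).prod = l.length := by omega
    have hp : S.pos i (l.map S.s).prod := by rw [pos]; omega
    rw [List.map_cons, List.map_cons, List.prod_cons, List.prod_cons, ← Matrix.mulVec_mulVec, ih hl']
    funext v
    rw [S.Lg_mulVec]
    set u := (l.map S.s).prod
    by_cases hv : v = S.s i * u
    · subst hv
      rw [if_neg (fun h => (S.pos_iff_not i u).1 h hp), S.s_mul_s, Pi.single_eq_same, Pi.single_eq_same,
        Pi.single_eq_of_ne (S.s_mul_ne i u), mul_zero, add_zero]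
    · have hne : S.s i * v ≠ u := fun e => hv (by rw [← e, S.s_mul_s])
      rw [Pi.single_eq_of_ne hv, Pi.single_eq_of_ne hne]
      by_cases hvu : v = u
      · subst hvu; rw [if_pos hp, mul_zero]
      · rw [Pi.single_eq_of_ne hvu]; split_ifs <;> ring

theorem LW_mulVec_one (a : R) (w : W) : S.LW a w *ᵥ Pi.single 1 1 = Pi.single w 1 := by
  rw [LW, S.list_mulVec_one a _ (by rw [S.red_prod, S.red_length]), S.red_prod]

theorem RW_mulVec_one (a : R) (w : W) : S.RW a w *ᵥ Pi.single 1 1 = Pi.single w⁻¹ 1 := by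
  funext v
  rw [RW, flipM_mulVec, show (fun u : W => (Pi.single 1 1 : W → R) u⁻¹) = Pi.single 1 1 from
    funext fun u => by simp [Pi.single_apply], S.LW_mulVec_one]
  simp [Pi.single_apply, inv_eq_iff_eq_inv]

/-- An element of the algebra is determined by its value at the identity. -/
theorem InComm.ext {a : R} {M N : Matrix W W R} (hM : S.InComm a M) (hN : S.InComm a N)
    (h : M *ᵥ Pi.single 1 1 = N *ᵥ Pi.single 1 1) : M = N := by
  refine Matrix.ext_of_mulVec_single fun w => ?_
  have e := S.RW_mulVec_one a w⁻¹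
  rw [inv_inv] at e
  rw [← e, Matrix.mulVec_mulVec, Matrix.mulVec_mulVec, (InComm.commute_RW S hM w⁻¹).eq,
    (InComm.commute_RW S hN w⁻¹).eq, ← Matrix.mulVec_mulVec, ← Matrix.mulVec_mulVec, h]

theorem InComm.mul {a : R} {M N : Matrix W W R} (hM : S.InComm a M) (hN : S.InComm a N) :
    S.InComm a (M * N) := fun j => (hM j).mul_left (hN j)

theorem inComm_Lg (a : R) (i : I) : S.InComm a (S.Lg a i) := fun j => S.commute_Lg_Rg a i j

theorem inComm_LW (a : R) (w : W) : S.InComm a (S.LW a w) := S.inComm_list a _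

theorem list_eq_LW (a : R) (l : List I) (hl : S.len (l.map S.s).prod = l.length) :
    (l.map (S.Lg a)).prod = S.LW a (l.map S.s).prod :=
  InComm.ext S (S.inComm_list a l) (S.inComm_LW a _) (by rw [S.list_mulVec_one a l hl, S.LW_mulVec_one])

theorem Lg_mul_LW {i : I} {w : W} (h : S.pos i w) (a : R) : S.Lg a i * S.LW a w = S.LW a (S.s i * w) := by
  have hl : S.len ((i :: S.red w).map S.s).prod = (i :: S.red w).length := by
    rw [List.map_cons, List.prod_cons, S.red_prod, List.length_cons, S.red_length]; exact h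
  have := S.list_eq_LW a _ hl
  rwa [List.map_cons, List.map_cons, List.prod_cons, List.prod_cons, S.red_prod] at this

theorem Rg_mul_RW {i : I} {w : W} (h : S.pos i w) (a : R) : S.Rg a i * S.RW a w = S.RW a (S.s i * w) := by
  rw [RW, RW, Rg, ← flipM_mul, S.Lg_mul_LW h]

theorem commute_Lg_RW (a : R) (i : I) (w : W) : Commute (S.Lg a i) (S.RW a w) :=
  InComm.commute_RW S (S.inComm_Lg a i) w

theorem commute_Rg_LW (a : R) (i : I) (w : W) : Commute (S.Rg a i) (S.LW a w) := (S.inComm_LW a w i).symm

/-- The Casimir operator. -/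
noncomputable def casimir (a : R) : Matrix W W R :=
  ∑ w : W, a ^ (Finset.univ.sup S.len - S.len w) • (S.LW a w * S.RW a w)

theorem Lg_sq (a : R) (i : I) : S.Lg a i * S.Lg a i = a • 1 + (a - 1) • S.Lg a i := by
  classical
  refine InComm.ext S (InComm.mul S (S.inComm_Lg a i) (S.inComm_Lg a i))
    (fun j => Commute.add_left ((Commute.one_left _).smul_left _) ((S.inComm_Lg a i j).smul_left _)) ?_
  funext v
  simp only [← Matrix.mulVec_mulVec, Matrix.add_mulVec, Matrix.smul_mulVec, Matrix.one_mulVec, Pi.add_apply,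
    Pi.smul_apply, smul_eq_mul, S.Lg_mulVec, S.s_mul_s, S.pos_iff_not]
  by_cases h : S.pos i v
  · simp only [h, if_true, not_true, if_false]; ring
  · simp only [h, if_false, not_false_iff, if_true]

/-- The Casimir operator maps into the centre. -/
theorem Lg_casimir (a : R) (i : I) : S.Lg a i * S.casimir a = S.Rg a i * S.casimir a := by
  classical
  set N := Finset.univ.sup S.len
  let T : W → Matrix W W R := fun w =>
    a ^ (N - S.len w) • ((S.Lg a i - S.Rg a i) * (S.LW a w * S.RW a w))
  have hTsum : (S.Lg a i - S.Rg a i) * S.casimir a = ∑ w, T w := by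
    simp only [T, casimir, Finset.mul_sum, mul_smul_comm, N]
  rw [← sub_eq_zero, ← sub_mul, hTsum]
  have hsplit := Finset.sum_filter_add_sum_filter_not (Finset.univ : Finset W) (fun w => S.pos i w) T
  have hneg : ∑ w ∈ Finset.univ.filter (fun w => ¬ S.pos i w), T w =
      ∑ w ∈ Finset.univ.filter (fun w => S.pos i w), T (S.s i * w) := by
    refine Finset.sum_nbij' (fun w => S.s i * w) (fun w => S.s i * w) ?_ ?_ ?_ ?_ ?_
    · intro w hw; simp [S.pos_iff_not, (Finset.mem_filter.1 hw).2]
    · intro w hw; simp [S.pos_iff_not, (Finset.mem_filter.1 hw).2]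
    · intro w _; exact S.s_mul_s i w
    · intro w _; exact S.s_mul_s i w
    · intro w _; simp only [S.s_mul_s]
  rw [← hsplit, hneg, ← Finset.sum_add_distrib]
  refine Finset.sum_eq_zero fun w hw => ?_
  have hp : S.pos i w := (Finset.mem_filter.1 hw).2
  have hle : S.len (S.s i * w) ≤ N := Finset.le_sup (Finset.mem_univ _)
  rw [pos] at hp
  have hexp : a ^ (N - S.len w) = a * a ^ (N - S.len (S.s i * w)) := by
    rw [← pow_succ']; congr 1; omega
  simp only [T, hexp, ← S.Lg_mul_LW hp, ← S.Rg_mul_RW hp]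
  rw [mul_comm a, ← smul_smul, ← smul_add]
  have e1 : (S.Lg a i - S.Rg a i) * (S.Lg a i * S.LW a w * (S.Rg a i * S.RW a w)) =
      (S.Lg a i - S.Rg a i) * (S.Lg a i * S.Rg a i) * (S.LW a w * S.RW a w) := by
    simp only [mul_assoc]
    congr 2
    rw [← mul_assoc (S.LW a w), ← (S.commute_Rg_LW a i w).eq, mul_assoc]
  have e2 : (S.Lg a i - S.Rg a i) * (S.Lg a i * S.Rg a i) = -(a • (S.Lg a i - S.Rg a i)) := by
    have hR2 : S.Rg a i * S.Rg a i = a • 1 + (a - 1) • S.Rg a i := by
      rw [Rg, ← flipM_mul, S.Lg_sq]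
      ext v u
      simp [flipM, Matrix.one_apply]
    rw [sub_mul, ← mul_assoc, S.Lg_sq, ← mul_assoc, ← (S.commute_Lg_Rg a i i).eq, mul_assoc, hR2, add_mul, mul_add,
      smul_mul_assoc, one_mul, smul_mul_assoc, mul_smul_comm, mul_one, mul_smul_comm, smul_sub]
    abel
  rw [e1, e2, neg_mul, smul_mul_assoc, ← sub_eq_add_neg, sub_self, smul_zero]

/-- The element with given value at the identity. -/
noncomputable def elX (a : R) (f : W → R) : Matrix W W R := ∑ w, f w • S.LW a w

theorem inComm_elX (a : R) (f : W → R) : S.InComm a (S.elX a f) := fun j =>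
  Commute.sum_left _ _ _ fun w _ => (S.inComm_LW a w j).smul_left _

theorem elX_mulVec_one (a : R) (f : W → R) : S.elX a f *ᵥ Pi.single 1 1 = f := by
  classical
  rw [elX, Matrix.sum_mulVec]
  funext v
  rw [Finset.sum_apply, Finset.sum_eq_single v]
  · rw [Matrix.smul_mulVec, S.LW_mulVec_one]; simp
  · intro w _ hw
    rw [Matrix.smul_mulVec, S.LW_mulVec_one]
    simp [Pi.single_eq_of_ne (Ne.symm hw)]
  · simp

theorem commute_elX_casimir (a : R) {f : W → R} (hf : ∀ i, S.Lg a i *ᵥ f = S.Rg a i *ᵥ f) :
    Commute (S.elX a f) (S.casimir a) := by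
  have hL : ∀ i, Commute (S.elX a f) (S.Lg a i) := by
    intro i
    refine InComm.ext S (InComm.mul S (S.inComm_elX a f) (S.inComm_Lg a i))
      (InComm.mul S (S.inComm_Lg a i) (S.inComm_elX a f)) ?_
    have hi : S.Lg a i *ᵥ Pi.single 1 1 = S.Rg a i *ᵥ (Pi.single 1 1 : W → R) := by
      have hl : S.len ([i].map S.s).prod = [i].length := by
        simpa [pos, S.len_one] using S.pos_one i
      have h1 := S.list_mulVec_one a [i] hl
      simp only [List.map_cons, List.map_nil, List.prod_cons, List.prod_nil, mul_one] at h1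
      rw [h1]
      funext v
      rw [Rg, flipM_mulVec, show (fun u : W => (Pi.single 1 1 : W → R) u⁻¹) = Pi.single 1 1 from
        funext fun u => by simp [Pi.single_apply], h1]
      simp [Pi.single_apply, inv_eq_iff_eq_inv, S.s_inv]
    rw [← Matrix.mulVec_mulVec, ← Matrix.mulVec_mulVec, hi, Matrix.mulVec_mulVec,
      (S.inComm_elX a f i).eq, ← Matrix.mulVec_mulVec, S.elX_mulVec_one, hf i]
  refine Commute.sum_right _ _ _ fun w _ => (Commute.mul_right ?_ (InComm.commute_RW S (S.inComm_elX a f) w)).smul_right _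
  refine Commute.list_prod_right _ _ fun x hx => ?_
  obtain ⟨i, -, rfl⟩ := List.mem_map.1 hx
  exact hL i

/-- A central element is a value of the Casimir operator, once the identity is one. -/
theorem exists_casimir_eq (a : R) (h1 : ∃ g, S.casimir a *ᵥ g = Pi.single 1 1) {f : W → R}
    (hf : ∀ i, S.Lg a i *ᵥ f = S.Rg a i *ᵥ f) : ∃ g, S.casimir a *ᵥ g = f := by
  obtain ⟨g, hg⟩ := h1
  exact ⟨S.elX a f *ᵥ g, by
    rw [Matrix.mulVec_mulVec, ← (S.commute_elX_casimir a hf).eq, ← Matrix.mulVec_mulVec, hg, S.elX_mulVec_one]⟩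

theorem casimir_central (a : R) (g : W → R) (i : I) :
    S.Lg a i *ᵥ (S.casimir a *ᵥ g) = S.Rg a i *ᵥ (S.casimir a *ᵥ g) := by
  rw [Matrix.mulVec_mulVec, Matrix.mulVec_mulVec, S.Lg_casimir]

variable {R' : Type*} [CommRing R'] (φ : R →+* R')

theorem map_Lg (a : R) (i : I) : (S.Lg a i).map φ = S.Lg (φ a) i := by
  ext v u
  simp only [Lg, Matrix.map_apply, Matrix.of_apply]
  split_ifs <;> simp

theorem map_Rg (a : R) (i : I) : (S.Rg a i).map φ = S.Rg (φ a) i := by
  rw [Rg, Rg, ← S.map_Lg φ, flipM, flipM, Matrix.submatrix_map]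

theorem map_casimir (a : R) : (S.casimir a).map φ = S.casimir (φ a) := by
  have h : ∀ w, φ.mapMatrix (S.LW a w) = S.LW (φ a) w := fun w => by
    rw [LW, LW, map_list_prod, List.map_map]
    exact congrArg List.prod (List.map_congr_left fun i _ => S.map_Lg φ a i)
  show φ.mapMatrix _ = _
  rw [casimir, map_sum]
  refine Finset.sum_congr rfl fun w _ => ?_
  rw [RingHom.mapMatrix_apply, Matrix.map_smul' φ _ _ φ.map_mul, map_pow, ← RingHom.mapMatrix_apply, map_mul, h]
  congr 2
  rw [RW, RW, ← h, RingHom.mapMatrix_apply, RingHom.mapMatrix_apply, flipM, flipM, Matrix.submatrix_map]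

end Setup

end CfsgLib.HeckeCenter
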